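import Mathlib.CategoryTheory.Adjunction.Basic
import Mathlib.CategoryTheory.NatIso

/-!
# Transition maps between right adjoints from transition isomorphisms between left adjoints
-/

set_option autoImplicit false

universe v₀ v₁ v u₀ u₁ u

open CategoryTheory

namespace Groth.Agent.FExist

variable {D₀ : Type u₀} [Category.{v₀} D₀] {D₁ : Type u₁} [Category.{v₁} D₁] {C : Type u} [Category.{v} C]
  {L₀ : C ⥤ D₀} {R₀ : D₀ ⥤ C} (a₀ : L₀ ⊣ R₀) {L₁ : C ⥤ D₁} {R₁ : D₁ ⥤ C} (a₁ : L₁ ⊣ R₁) (K : D₁ ⥤ D₀)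
  (Φ : L₁ ⋙ K ≅ L₀)

/-- The adjunct transition map. -/
def absT {M₁ : D₁} {M₀ : D₀} (e : K.obj M₁ ⟶ M₀) : R₁.obj M₁ ⟶ R₀.obj M₀ :=
  a₀.homEquiv _ _ (Φ.inv.app (R₁.obj M₁) ≫ K.map (a₁.counit.app M₁) ≫ e)

theorem absT_comm_iff [IsIso a₁.counit] {M₁ N₁ : D₁} {M₀ N₀ : D₀} (e : K.obj M₁ ⟶ M₀) (e' : K.obj N₁ ⟶ N₀)
    (f₁ : M₁ ⟶ N₁) (f₀ : M₀ ⟶ N₀) :
    absT a₀ a₁ K Φ e ≫ R₀.map f₀ = R₁.map f₁ ≫ absT a₀ a₁ K Φ e' ↔ K.map f₁ ≫ e' = e ≫ f₀ := by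
  rw [absT, absT, ← Adjunction.homEquiv_naturality_right, ← Adjunction.homEquiv_naturality_left,
    (a₀.homEquiv _ _).apply_eq_iff_eq, Category.assoc, Category.assoc]
  have h1 : L₀.map (R₁.map f₁) ≫ Φ.inv.app (R₁.obj N₁) ≫ K.map (a₁.counit.app N₁) ≫ e' =
      Φ.inv.app (R₁.obj M₁) ≫ K.map (a₁.counit.app M₁) ≫ K.map f₁ ≫ e' := by
    rw [← Category.assoc, Φ.inv.naturality, Category.assoc, Functor.comp_map, ← K.map_comp_assoc,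
      ← K.map_comp_assoc]
    exact congrArg (fun z => _ ≫ K.map z ≫ _) (a₁.counit.naturality f₁)
  rw [h1, cancel_epi, cancel_epi]
  exact eq_comm

theorem unit_absT (F : C) (e : K.obj (L₁.obj F) ⟶ L₀.obj F) (he : e = Φ.hom.app F) :
    a₁.unit.app F ≫ absT a₀ a₁ K Φ e = a₀.unit.app F := by
  subst he
  rw [absT, ← a₀.homEquiv_id]
  refine (a₀.homEquiv_naturality_left _ _).symm.trans (congrArg (a₀.homEquiv _ _) ?_)
  refine (Category.assoc _ _ _).symm.trans ((congrArg (· ≫ _) (Φ.inv.naturality (a₁.unit.app F))).trans ?_)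
  refine (Category.assoc _ _ _).trans (Eq.trans (congrArg (Φ.inv.app F ≫ ·) ?_) (Φ.inv_hom_id_app F))
  refine (K.map_comp_assoc _ _ _).symm.trans ?_
  exact (congrArg (fun z => K.map z ≫ _) (a₁.left_triangle_components F)).trans
    ((congrArg (· ≫ _) (K.map_id _)).trans (Category.id_comp _))

theorem homEquiv_absT (F : C) {M₁ : D₁} {M₀ : D₀} (θ₁ : L₁.obj F ⟶ M₁) (θ₀ : L₀.obj F ⟶ M₀) (e : K.obj M₁ ⟶ M₀)
    (he : K.map θ₁ ≫ e = Φ.hom.app F ≫ θ₀) :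
    a₁.homEquiv _ _ θ₁ ≫ absT a₀ a₁ K Φ e = a₀.homEquiv _ _ θ₀ := by
  rw [absT]
  refine (a₀.homEquiv_naturality_left _ _).symm.trans (congrArg (a₀.homEquiv _ _) ?_)
  refine (Category.assoc _ _ _).symm.trans ((congrArg (· ≫ _) (Φ.inv.naturality (a₁.homEquiv _ _ θ₁))).trans ?_)
  refine (Category.assoc _ _ _).trans (Eq.trans (congrArg (Φ.inv.app F ≫ ·) ?_)
    ((congrArg (Φ.inv.app F ≫ ·) he).trans (Φ.inv_hom_id_app_assoc F θ₀)))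
  refine (K.map_comp_assoc _ _ _).symm.trans (congrArg (fun z => K.map z ≫ e) ?_)
  exact ((a₁.homEquiv_counit (g := a₁.homEquiv F M₁ θ₁)).symm).trans ((a₁.homEquiv F M₁).symm_apply_apply θ₁)

/-- The isomorphism adjunct to a transition map. -/
@[simps!]
noncomputable def absIso [IsIso a₁.counit] {M₁ : D₁} {M₀ : D₀} (e : K.obj M₁ ≅ M₀) : L₀.obj (R₁.obj M₁) ≅ M₀ :=
  (Φ.app (R₁.obj M₁)).symm ≪≫ K.mapIso (asIso (a₁.counit.app M₁)) ≪≫ e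

theorem absT_eq [IsIso a₁.counit] {M₁ : D₁} {M₀ : D₀} (e : K.obj M₁ ≅ M₀) :
    absT a₀ a₁ K Φ e.hom = a₀.homEquiv _ _ (absIso a₁ K Φ e).hom := rfl

end Groth.Agent.FExist
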