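import Groth.Agent.FExistLib.Abs
import Mathlib.CategoryTheory.Limits.Preserves.Shapes.Kernels
import Mathlib.CategoryTheory.Abelian.Basic
import Mathlib.CategoryTheory.Preadditive.AdditiveFunctor
import Mathlib.CategoryTheory.Limits.FilteredColimitCommutesFiniteLimit
import Mathlib.CategoryTheory.ObjectProperty.Ind

/-!
# Functors that are fully faithful on a class of objects and filtered colimits of these
-/

set_option autoImplicit false
set_option linter.style.haveILetI false

universe u v w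

open CategoryTheory CategoryTheory.Limits

namespace Groth.Agent.FExist

variable {C : Type v} [Category.{u} C] [Abelian C] {D : Type w} [Category.{u} D] [Abelian D] (L : C ⥤ D)
  (P Q : C → Prop) [L.Additive] [PreservesColimitsOfSize.{u, u} L]
  (hQ : ∀ G, Q G → ∃ (I : Type u) (_ : SmallCategory I) (_ : IsFiltered I) (F : I ⥤ C) (c : Cocone F)
    (_ : IsColimit c), (∀ i, P (F.obj i)) ∧ c.pt = G)
  (hinj : ∀ {G H : C}, P G → Q H → ∀ φ : G ⟶ H, L.map φ = 0 → φ = 0)
  (hsurj : ∀ {G H : C}, P G → P H → ∀ ψ : L.obj G ⟶ L.obj H, ∃ φ, L.map φ = ψ)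
  (hfac : ∀ {G : C} {I : Type u} [SmallCategory I] [IsFiltered I] {E : I ⥤ D} {c : Cocone E}, IsColimit c →
    P G → ∀ σ : L.obj G ⟶ c.pt, ∃ (i : I) (g : L.obj G ⟶ E.obj i), g ≫ c.ι.app i = σ)

include hQ hinj hsurj hfac in
/-- Full faithfulness extends to filtered colimits. -/
theorem map_bijective_of_colim {G H : C} (hG : Q G) (hH : Q H) :
    Function.Bijective (fun φ : G ⟶ H => L.map φ) := by
  have hone : ∀ {G : C}, P G → ∀ ψ : L.obj G ⟶ L.obj H, ∃ φ, L.map φ = ψ := by
    intro G hP ψ
    obtain ⟨I, _, _, F, c, hc, hF, rfl⟩ := hQ H hH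
    obtain ⟨i, g, hg⟩ := hfac (isColimitOfPreserves L hc) hP ψ
    obtain ⟨φ, hφ⟩ := hsurj hP (hF i) g
    exact ⟨φ ≫ c.ι.app i, by rw [L.map_comp, hφ]; exact hg⟩
  obtain ⟨I, _, _, F, c, hc, hF, rfl⟩ := hQ G hG
  refine ⟨fun a b hab => hc.hom_ext fun i => ?_, fun ψ => ?_⟩
  · have h : L.map (c.ι.app i ≫ (a - b)) = 0 := by
      rw [L.map_comp, L.map_sub, show L.map a = L.map b from hab, sub_self, comp_zero]
    have := hinj (hF i) hH _ h
    rwa [Preadditive.comp_sub, sub_eq_zero] at this
  · choose φ hφ using fun i => hone (hF i) (L.map (c.ι.app i) ≫ ψ)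
    let s : Cocone F :=
      { pt := H
        ι :=
          { app := φ
            naturality := fun i j f => by
              have h : L.map (F.map f ≫ φ j - φ i) = 0 := by
                rw [L.map_sub, L.map_comp, hφ, hφ, ← Category.assoc, ← L.map_comp, c.w, sub_self]
              have h' := hinj (hF i) hH _ h
              simpa [sub_eq_zero] using h' } }
    refine ⟨hc.desc s, (isColimitOfPreserves L hc).hom_ext fun i => ?_⟩
    show L.map (c.ι.app i) ≫ L.map (hc.desc s) = L.map (c.ι.app i) ≫ ψ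
    rw [← L.map_comp, hc.fac]
    exact hφ i

omit [Abelian C] [Abelian D] [L.Additive] [PreservesColimitsOfSize.{u, u} L] in
/-- A diagram with values in the essential image lifts. -/
theorem exists_lift_diagram {J : Type u} [SmallCategory J] (E : J ⥤ D) (G : J → C)
    (e : ∀ j, L.obj (G j) ≅ E.obj j)
    (hb : ∀ i j, Function.Bijective (fun φ : G i ⟶ G j => L.map φ)) :
    ∃ (F : J ⥤ C), (∀ j, F.obj j = G j) ∧ Nonempty (F ⋙ L ≅ E) := by
  choose m hm using fun (i j : J) (f : i ⟶ j) => (hb i j).2 ((e i).hom ≫ E.map f ≫ (e j).inv)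
  refine ⟨{ obj := G
            map := fun {i j} f => m i j f
            map_id := fun i => (hb i i).1 ?_
            map_comp := fun {i j k} f g => (hb i k).1 ?_ }, fun j => rfl,
    ⟨NatIso.ofComponents e fun {i j} f => ?_⟩⟩
  · show L.map (m i i (𝟙 i)) = L.map (𝟙 (G i))
    rw [show L.map (m i i (𝟙 i)) = _ from hm i i (𝟙 i)]
    simp
  · show L.map (m i k (f ≫ g)) = L.map (m i j f ≫ m j k g)
    rw [show L.map (m i k (f ≫ g)) = _ from hm i k (f ≫ g), L.map_comp,
      show L.map (m i j f) = _ from hm i j f, show L.map (m j k g) = _ from hm j k g]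
    simp
  · show L.map (m i j f) ≫ (e j).hom = (e i).hom ≫ E.map f
    rw [show L.map (m i j f) = _ from hm i j f]
    simp

variable (P' : D → Prop) (hP' : ∀ G, P G → P' (L.obj G))
  (hess : ∀ E, P' E → ∃ G, P G ∧ Nonempty (L.obj G ≅ E))
  (hQc : ∀ {J : Type u} [SmallCategory J] (F : J ⥤ C) (c : Cocone F), IsColimit c → (∀ j, P (F.obj j)) → Q c.pt)
  [HasColimitsOfSize.{u, u} C]

include hQ hess hQc hP' in
omit [L.Additive] in
/-- The essential image of the filtered colimits. -/
theorem ind_iff_exists (hb : ∀ {G H : C}, P G → P H → Function.Bijective (fun φ : G ⟶ H => L.map φ))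
    (E : D) :
    ObjectProperty.ind.{u} (fun E => P' E) E ↔ ∃ G, Q G ∧ Nonempty (L.obj G ≅ E) := by
  constructor
  · rintro ⟨J, _, _, p, hp⟩
    choose G hG e using fun j => hess _ (hp j)
    obtain ⟨F, hF, ⟨i⟩⟩ := exists_lift_diagram L p.diag G (fun j => (e j).some) fun i j => hb (hG i) (hG j)
    refine ⟨colimit F, hQc F _ (colimit.isColimit F) fun j => hF j ▸ hG j, ⟨?_⟩⟩
    exact (isColimitOfPreserves L (colimit.isColimit F)).coconePointsIsoOfNatIso p.isColimit i
  · rintro ⟨G, hG, ⟨e⟩⟩
    obtain ⟨I, _, _, F, c, hc, hF, rfl⟩ := hQ G hG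
    refine ⟨I, inferInstance, inferInstance, ?_, fun i => ?_⟩
    · exact
        { diag := F ⋙ L
          ι := (L.mapCocone c).ι ≫ (Functor.const I).map e.hom
          isColimit := IsColimit.ofIsoColimit (isColimitOfPreserves L hc) (Cocone.ext e fun j => rfl) }
    · exact hP' _ (hF i)

end Groth.Agent.FExist
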