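import Groth.Agent.FExistLib.Equiv
import Groth.Agent.FComplLib.Conservative

/-!
# Kernels, cokernels and extensions of algebraizable modules
-/

set_option autoImplicit false
set_option linter.style.haveILetI false
set_option linter.unusedVariables false
set_option backward.isDefEq.respectTransparency false
set_option backward.isDefEq.respectTransparency.types false
set_option maxHeartbeats 1000000

universe u

open CategoryTheory CategoryTheory.Limits AlgebraicGeometry Opposite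

noncomputable section

namespace Groth.Agent.FExist

section

variable {C D : Type*} [Category C] [Abelian C] [Category D] [Abelian D]

theorem exists_exact_of_iso (P : C ⥤ D) [PreservesFiniteColimits P] (S : ShortComplex C) (hS : S.ShortExact)
    {Q₁ Q₂ Q₃ : D} (q₁ : P.obj S.X₁ ≅ Q₁) (q₂ : P.obj S.X₂ ≅ Q₂) (q₃ : P.obj S.X₃ ≅ Q₃) :
    ∃ (f : Q₁ ⟶ Q₂) (g : Q₂ ⟶ Q₃) (w : f ≫ g = 0), (ShortComplex.mk f g w).Exact ∧ Epi g := by
  haveI : P.Additive := by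
    haveI : PreservesBinaryBiproducts P := preservesBinaryBiproducts_of_preservesBinaryCoproducts P
    exact Functor.additive_of_preservesBinaryBiproducts P
  haveI : Epi S.g := hS.epi_g
  haveI : Epi (P.map S.g) := inferInstance
  have hz : P.map S.f ≫ P.map S.g = 0 := by rw [← P.map_comp, S.zero, P.map_zero]
  have hex : (ShortComplex.mk (P.map S.f) (P.map S.g) hz).Exact :=
    ShortComplex.exact_of_g_is_cokernel _ (isColimitCoforkMapOfIsColimit' P S.zero hS.gIsCokernel)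
  refine ⟨q₁.inv ≫ P.map S.f ≫ q₂.hom, q₂.inv ≫ P.map S.g ≫ q₃.hom, by simp [reassoc_of% hz],
    ShortComplex.exact_of_iso (ShortComplex.isoMk q₁ q₂ q₃ (by simp) (by simp)) hex, inferInstance⟩

end

variable {A : Type u} [CommRing A] [IsNoetherianRing A] {J : Ideal A} [IsAdicComplete J A] {X : Scheme.{u}}
  [X.Over (Spec (CommRingCat.of A))] [IsSeparated (X ↘ Spec (CommRingCat.of A))]
  [LocallyOfFiniteType (X ↘ Spec (CommRingCat.of A))] [QuasiCompact (X ↘ Spec (CommRingCat.of A))]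
  [AlgebraicGeometry.IsNoetherian X] {𝓘 : X.IdealSheafData}
  (h𝓘 : 𝓘 = (FSch.idealSpec A J).comap (X ↘ Spec (CommRingCat.of A)))
  (hX : (FSch.completionAlong X 𝓘).IsFormal)

variable (A) in
/-- Algebraizable modules. -/
def Algz (𝔉 : FSch.ModF (FSch.completionAlong X 𝓘) hX) : Prop :=
  ∃ G : X.Modules, CohPS A G ∧ Nonempty (𝔉 ≅ (FSch.complMod 𝓘 G).realMod hX)

variable {hX}

omit [IsNoetherianRing A] [IsSeparated (X ↘ Spec (CommRingCat.of A))]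
  [LocallyOfFiniteType (X ↘ Spec (CommRingCat.of A))] [QuasiCompact (X ↘ Spec (CommRingCat.of A))] in
theorem algz_iff {𝔉 : FSch.ModF (FSch.completionAlong X 𝓘) hX} :
    (∃ G : X.Modules, Coh.IsCoh G ∧ ClSub.IsProperOver (X ↘ Spec (CommRingCat.of A)) (CohB1.support G) ∧
      Nonempty (𝔉 ≅ (FSch.complMod 𝓘 G).realMod hX)) ↔ Algz A hX 𝔉 :=
  ⟨fun ⟨G, a, b, c⟩ => ⟨G, ⟨a, b⟩, c⟩, fun ⟨G, ⟨a, b⟩, c⟩ => ⟨G, a, b, c⟩⟩

variable (hX) in
/-- The completion functor. -/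
abbrev kapL : X.Modules ⥤ FSch.ModF (FSch.completionAlong X 𝓘) hX :=
  (FSch.toSchemeMor (FSch.completionAlong X 𝓘) hX (FSch.completionToX X 𝓘) (FSch.completionToX_comm X 𝓘)).pull

omit [IsNoetherianRing A] [IsSeparated (X ↘ Spec (CommRingCat.of A))]
  [LocallyOfFiniteType (X ↘ Spec (CommRingCat.of A))] [QuasiCompact (X ↘ Spec (CommRingCat.of A))] in
theorem algz_iff_pull {𝔉 : FSch.ModF (FSch.completionAlong X 𝓘) hX} :
    Algz A hX 𝔉 ↔ ∃ G : X.Modules, CohPS A G ∧ Nonempty (𝔉 ≅ (kapL hX).obj G) := by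
  constructor
  · rintro ⟨G, hG, ⟨e⟩⟩
    haveI := FCompl.complCmp_isIso X 𝓘 hX G hG.1
    exact ⟨G, hG, ⟨e ≪≫ (asIso (FCompl.complCmp X 𝓘 hX G)).symm⟩⟩
  · rintro ⟨G, hG, ⟨e⟩⟩
    haveI := FCompl.complCmp_isIso X 𝓘 hX G hG.1
    exact ⟨G, hG, ⟨e ≪≫ asIso (FCompl.complCmp X 𝓘 hX G)⟩⟩

theorem algz_of_iso {𝔉 𝔊 : FSch.ModF (FSch.completionAlong X 𝓘) hX} (e : 𝔉 ≅ 𝔊) (h : Algz A hX 𝔉) :
    Algz A hX 𝔊 := by
  obtain ⟨G, hG, ⟨i⟩⟩ := h
  exact ⟨G, hG, ⟨e.symm ≪≫ i⟩⟩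

include h𝓘

/-- Kernels, images and cokernels of algebraizable modules are algebraizable. -/
theorem algz_kernel_image_cokernel {𝔉 𝔊 : FSch.ModF (FSch.completionAlong X 𝓘) hX} (h𝔉 : Algz A hX 𝔉)
    (h𝔊 : Algz A hX 𝔊) (u : 𝔉 ⟶ 𝔊) :
    Algz A hX (kernel u) ∧ Algz A hX (Abelian.image u) ∧ Algz A hX (cokernel u) := by
  obtain ⟨F, hF, ⟨a⟩⟩ := algz_iff_pull.1 h𝔉
  obtain ⟨G, hG, ⟨b⟩⟩ := algz_iff_pull.1 h𝔊
  obtain ⟨φ, hφ⟩ := (pull_map_bijective h𝓘 hX hF hG).2 (a.inv ≫ u ≫ b.hom)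
  let L := kapL (𝓘 := 𝓘) hX
  haveI : PreservesFiniteLimits L := CompFlat.completion_flat X 𝓘 hX
  haveI : PreservesColimitsOfSize.{0, 0} L :=
    (FSch.toSchemeMor (FSch.completionAlong X 𝓘) hX (FSch.completionToX X 𝓘)
      (FSch.completionToX_comm X 𝓘)).adj.leftAdjoint_preservesColimits
  have hu : u ≫ b.hom = a.hom ≫ L.map φ := by
    rw [show L.map φ = a.inv ≫ u ≫ b.hom from hφ, Iso.hom_inv_id_assoc]
  let ec : cokernel u ≅ L.obj (cokernel φ) :=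
    cokernel.mapIso u (L.map φ) a b hu ≪≫ (PreservesCokernel.iso L φ).symm
  obtain ⟨hk, hc⟩ := cohPS_kernel_cokernel hF hG φ
  refine ⟨algz_iff_pull.2 ⟨_, hk, ⟨kernel.mapIso u (L.map φ) a b hu ≪≫ (PreservesKernel.iso L φ).symm⟩⟩,
    algz_iff_pull.2 ⟨_, (cohPS_kernel_cokernel hG hc (cokernel.π φ)).1, ⟨?_⟩⟩, algz_iff_pull.2 ⟨_, hc, ⟨ec⟩⟩⟩
  refine kernel.mapIso (cokernel.π u) (L.map (cokernel.π φ)) b ec ?_ ≪≫ (PreservesKernel.iso L (cokernel.π φ)).symm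
  simp only [ec, Iso.trans_hom, Iso.symm_hom, cokernel.mapIso_hom, cokernel.π_desc_assoc, Category.assoc,
    PreservesCokernel.iso_inv, π_comp_cokernelComparison]

omit h𝓘 in
theorem isCohF_of_algz {𝔉 : FSch.ModF (FSch.completionAlong X 𝓘) hX} (h : Algz A hX 𝔉) :
    ∃ 𝔐 : FSch.ModSys (FSch.completionAlong X 𝓘), 𝔐.IsCoh ∧ Nonempty (𝔉 ≅ 𝔐.realMod hX) := by
  obtain ⟨G, hG, he⟩ := h
  exact ⟨_, isCoh_complMod hG.1, he⟩

variable (hX) in
/-- The bottom level as a module on the scheme. -/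
abbrev botF : FSch.ModF (FSch.completionAlong X 𝓘) hX ⥤ X.Modules :=
  (FSch.levelMor (FSch.completionAlong X 𝓘) hX 0).pull ⋙ Scheme.Modules.pushforward (FSch.completionToX X 𝓘 0)

omit h𝓘 in
theorem nonempty_botF_realMod (𝔐 : FSch.ModSys (FSch.completionAlong X 𝓘)) (h𝔐 : 𝔐.IsCoh) :
    Nonempty ((botF hX).obj (𝔐.realMod hX) ≅ obP 𝓘 𝔐 0) :=
  ⟨(Scheme.Modules.pushforward (FSch.completionToX X 𝓘 0)).mapIso
    (@asIso _ _ _ _ _ (FCompl.isIso_symm_realProj (h := hX) 𝔐 (S3854.result X 𝓘) h𝔐 0))⟩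

theorem support_obP_complMod {G : X.Modules} (hG : Coh.IsCoh G) :
    CohB1.support (obP 𝓘 (FSch.complMod 𝓘 G) 0) ⊆ CohB1.support G := by
  obtain ⟨β, hβ⟩ := exists_completion_iso_tower h𝓘 hG
  haveI : Epi (Formal.modPowπ J (0 + 1) G) := by unfold Formal.modPowπ; exact coequalizer.π_epi
  haveI : Epi (towerπ 𝓘 G 0) := by rw [← hβ]; infer_instance
  exact FormalSys.support_subset_of_epi (towerπ 𝓘 G 0)

omit h𝓘 in
theorem preservesFiniteColimits_botF : PreservesFiniteColimits (botF (𝓘 := 𝓘) hX) := by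
  haveI : PreservesFiniteColimits (Scheme.Modules.pushforward (FSch.completionToX X 𝓘 0)) := by
    haveI : PreservesLimitsOfSize.{0, 0} (Scheme.Modules.pushforward (FSch.completionToX X 𝓘 0)) :=
      (adjL 𝓘 0).rightAdjoint_preservesLimits
    haveI := (Scheme.Modules.pushforward (FSch.completionToX X 𝓘 0)).preservesHomology_of_preservesEpis_and_kernels
    exact (Scheme.Modules.pushforward (FSch.completionToX X 𝓘 0)).preservesFiniteColimits_of_preservesHomology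
  haveI : PreservesColimitsOfSize.{0, 0} (FSch.levelMor (FSch.completionAlong X 𝓘) hX 0).pull :=
    (FSch.levelMor (FSch.completionAlong X 𝓘) hX 0).adj.leftAdjoint_preservesColimits
  haveI : PreservesFiniteColimits (FSch.levelMor (FSch.completionAlong X 𝓘) hX 0).pull := inferInstance
  exact comp_preservesFiniteColimits _ _

omit h𝓘 in
theorem isProperOver_middle {P₁ P₂ P₃ : X.Modules} (h₁ : CohPS A P₁) (h₂ : Coh.IsCoh P₂) (h₃ : CohPS A P₃)
    (f : P₁ ⟶ P₂) (g : P₂ ⟶ P₃) (w : f ≫ g = 0) (hex : (ShortComplex.mk f g w).Exact) (hg : Epi g) :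
    ClSub.IsProperOver (X ↘ Spec (CommRingCat.of A)) (CohB1.support P₂) := by
  obtain ⟨hker, -⟩ := S9514.result X h₂ h₃.1 g
  haveI : Epi (kernel.lift g f w) := (ShortComplex.exact_iff_epi_kernel_lift _).1 hex
  have hksupp : ClSub.IsProperOver (X ↘ Spec (CommRingCat.of A)) (CohB1.support (kernel g)) :=
    ClSubLib.isProperOver_subset _ h₁.2 (PullbackMod.isClosed_support_of_isFT hker.2)
      (FormalSys.support_subset_of_epi (kernel.lift g f w))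
  have hse : (ShortComplex.mk (kernel.ι g) g (kernel.condition g)).ShortExact :=
    { exact := ShortComplex.exact_of_f_is_kernel _ (kernelIsKernel g), epi_g := hg }
  exact (S0796.result _ _ hse hker h₂ h₃.1).2 ⟨hksupp, h₃.2⟩

/-- Extensions of algebraizable modules are algebraizable. -/
theorem algz_of_shortExact (S : ShortComplex (FSch.ModF (FSch.completionAlong X 𝓘) hX)) (hS : S.ShortExact)
    (h₂ : FSch.IsCohF _ hX S.X₂) (a₁ : Algz A hX S.X₁) (a₃ : Algz A hX S.X₃) : Algz A hX S.X₂ := by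
  obtain ⟨G₁, hG₁, ⟨e₁⟩⟩ := a₁
  obtain ⟨G₃, hG₃, ⟨e₃⟩⟩ := a₃
  obtain ⟨𝔐, h𝔐, ⟨e₂⟩⟩ := FCompl.exists_realMod_iso (S3854.result X 𝓘) h₂
  obtain ⟨i₁⟩ := nonempty_botF_realMod (hX := hX) (FSch.complMod 𝓘 G₁) (isCoh_complMod hG₁.1)
  obtain ⟨i₂⟩ := nonempty_botF_realMod (hX := hX) 𝔐 h𝔐
  obtain ⟨i₃⟩ := nonempty_botF_realMod (hX := hX) (FSch.complMod 𝓘 G₃) (isCoh_complMod hG₃.1)
  haveI := preservesFiniteColimits_botF (X := X) (𝓘 := 𝓘) (hX := hX)
  obtain ⟨f', g', w, hex', hg'⟩ := exists_exact_of_iso (botF (𝓘 := 𝓘) hX) S hS ((botF hX).mapIso e₁ ≪≫ i₁)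
    ((botF hX).mapIso e₂ ≪≫ i₂) ((botF hX).mapIso e₃ ≪≫ i₃)
  have hob : ∀ (𝔑 : FSch.ModSys (FSch.completionAlong X 𝓘)), 𝔑.IsCoh → Coh.IsCoh (obP 𝓘 𝔑 0) := fun 𝔑 h𝔑 =>
    (isCohFormal_tower h𝓘 𝔑 h𝔑).1 0
  have hps : ∀ (G : X.Modules), CohPS A G → CohPS A (obP 𝓘 (FSch.complMod 𝓘 G) 0) := fun G hG => by
    have hc := hob _ (isCoh_complMod hG.1)
    exact ⟨hc, ClSubLib.isProperOver_subset _ hG.2 (PullbackMod.isClosed_support_of_isFT hc.2)
      (support_obP_complMod h𝓘 hG.1)⟩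
  have hs : ClSub.IsProperOver (X ↘ Spec (CommRingCat.of A)) (CohB1.support (obP 𝓘 𝔐 0)) :=
    isProperOver_middle (hps G₁ hG₁) (hob 𝔐 h𝔐) (hps G₃ hG₃) f' g' w hex' hg'
  obtain ⟨G, hG, ⟨e⟩⟩ := exists_algebraization h𝓘 hX 𝔐 h𝔐 hs
  exact ⟨G, hG, ⟨e₂ ≪≫ e⟩⟩

/-- A module between algebraizable kernel and cokernel is algebraizable. -/
theorem algz_of_kernel_cokernel {𝔉 𝔊 : FSch.ModF (FSch.completionAlong X 𝓘) hX} (h𝔉 : FSch.IsCohF _ hX 𝔉)
    (u : 𝔉 ⟶ 𝔊) (a𝔊 : Algz A hX 𝔊) (ak : Algz A hX (kernel u)) (ac : Algz A hX (cokernel u)) : Algz A hX 𝔉 := by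
  have aim : Algz A hX (Abelian.image u) := (algz_kernel_image_cokernel h𝓘 a𝔊 ac (cokernel.π u)).1
  have w : kernel.ι u ≫ Abelian.factorThruImage u = 0 := by
    rw [← cancel_mono (Abelian.image.ι u)]; simp
  refine algz_of_shortExact h𝓘 (ShortComplex.mk (kernel.ι u) (Abelian.factorThruImage u) w) ?_ h𝔉 ak aim
  refine { exact := ShortComplex.exact_of_f_is_kernel _ ?_ }
  refine KernelFork.IsLimit.ofι' (kernel.ι u) w fun {T} k hk => ⟨kernel.lift u k ?_, kernel.lift_ι _ _ _⟩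
  rw [← Abelian.image.fac u, ← Category.assoc, hk, zero_comp]

end Groth.Agent.FExist
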