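import Groth.Agent.FComplLib.Completion
import Groth.Prelude.Def_FSch6

/-!
# Base change maps of completions, generalities
-/

set_option autoImplicit false
set_option linter.style.haveILetI false
set_option linter.unusedVariables false
set_option linter.unusedSectionVars false
set_option backward.isDefEq.respectTransparency false
set_option backward.isDefEq.respectTransparency.types false
set_option maxHeartbeats 1000000

universe u v v₁ v₂ v₃ v₄ u₁ u₂ u₃ u₄

open CategoryTheory CategoryTheory.Limits AlgebraicGeometry TopologicalSpace Opposite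

noncomputable section

namespace Groth.Agent.FExist

section Abs

variable {C₁ : Type u₁} [Category.{v₁} C₁] {C₂ : Type u₂} [Category.{v₂} C₂] {D₁ : Type u₃} [Category.{v₃} D₁]
  {D₂ : Type u₄} [Category.{v₄} D₂] {La : C₁ ⥤ D₁} {Ra : D₁ ⥤ C₁} (adjA : La ⊣ Ra) {Ld : C₂ ⥤ D₂} {Rd : D₂ ⥤ C₂}
  (adjD : Ld ⊣ Rd) (B : C₁ ⥤ C₂) (C : D₁ ⥤ D₂) (S : Ra ⋙ B ⟶ C ⋙ Rd)

/-- Transpose of a base change map composed with comparison maps. -/
theorem bc_key {M : C₁} {T : D₁} {T' : D₂} (cX : La.obj M ⟶ T) (cY : Ld.obj (B.obj M) ⟶ T')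
    (bc : Ld.obj (B.obj M) ⟶ C.obj (La.obj M)) (θ : T' ⟶ C.obj T) (hθ : cY ≫ θ = bc ≫ C.map cX)
    (hbc : adjD.homEquiv _ _ bc = B.map (adjA.unit.app M) ≫ S.app _) :
    adjD.homEquiv _ _ cY ≫ Rd.map θ = B.map (adjA.homEquiv _ _ cX) ≫ S.app T := by
  rw [← Adjunction.homEquiv_naturality_right, hθ, Adjunction.homEquiv_naturality_right, hbc, Category.assoc]
  have hn := S.naturality cX
  simp only [Functor.comp_map] at hn
  rw [← hn, ← Category.assoc, ← Functor.map_comp, Adjunction.homEquiv_unit]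

include adjA in
/-- A base change map is invertible when the transposed map is. -/
theorem isIso_of_key {M : C₁} {T : D₁} {T' : D₂} (cX : La.obj M ⟶ T) (cY : Ld.obj (B.obj M) ⟶ T') [IsIso cX] [IsIso cY]
    (bc : Ld.obj (B.obj M) ⟶ C.obj (La.obj M))
    (hbc : adjD.homEquiv _ _ bc = B.map (adjA.unit.app M) ≫ S.app _)
    (H : ∀ θ : T' ⟶ C.obj T, adjD.homEquiv _ _ cY ≫ Rd.map θ = B.map (adjA.homEquiv _ _ cX) ≫ S.app T → IsIso θ) :
    IsIso bc := by
  let θ := inv cY ≫ bc ≫ C.map cX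
  have hθ : cY ≫ θ = bc ≫ C.map cX := IsIso.hom_inv_id_assoc cY _
  haveI := H θ (bc_key adjA adjD B C S cX cY bc θ hθ hbc)
  haveI : IsIso (bc ≫ C.map cX) := by rw [← hθ]; infer_instance
  exact IsIso.of_isIso_comp_right bc (C.map cX)

end Abs

section Approx

variable {OY OX : Type u} [AddCommGroup OY] [AddCommGroup OX] {N : Type u} [AddCommGroup N] {AY AX : ℕ → Type u}
  [∀ k, AddCommGroup (AY k)] [∀ k, AddCommGroup (AX k)] (πY : ∀ k, OY →+ AY k) (πX : ∀ k, OX →+ AX k)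
  (tY : ∀ k, AY (k + 1) →+ AY k) (hY : N →+ OY) (hX : N →+ OX) (Φ : OY →+ OX) (c : ℕ)

/-- Bijectivity from approximation by sections. -/
theorem bijective_of_approx (hYs : ∀ k x, ∃ t, πY k (hY t) = πY k x) (hΦh : ∀ t, Φ (hY t) = hX t)
    (hΦ : ∀ k z, πY k z = 0 → πX k (Φ z) = 0) (hsmall : ∀ n t, πX (n + c) (hX t) = 0 → πY n (hY t) = 0)
    (hex : ∀ y n, ∃ s, πX n (hX s) = πX n y)
    (hleY : ∀ {n k : ℕ}, n ≤ k → ∀ {x y}, πY k x = πY k y → πY n x = πY n y)
    (hleX : ∀ {n k : ℕ}, n ≤ k → ∀ {x y}, πX k x = πX k y → πX n x = πX n y)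
    (htY : ∀ n x, tY n (πY (n + 1) x) = πY n x)
    (hextY : ∀ x y, (∀ n, πY n x = πY n y) → x = y) (hextX : ∀ x y, (∀ n, πX n x = πX n y) → x = y)
    (hlimY : ∀ b : ∀ n, AY n, (∀ n, tY n (b (n + 1)) = b n) → ∃ x, ∀ n, πY n x = b n) :
    Function.Bijective Φ := by
  have happ : ∀ k x t, πY k x = πY k (hY t) → πX k (Φ x) = πX k (hX t) := fun k x t h => by
    have h1 := hΦ k (x - hY t) (by rw [map_sub, h, sub_self])
    rw [map_sub, map_sub, sub_eq_zero] at h1
    exact h1.trans (congrArg _ (hΦh t))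
  refine ⟨(injective_iff_map_eq_zero _).2 fun x hx => hextY _ _ fun n => ?_, fun y => ?_⟩
  · obtain ⟨t, ht⟩ := hYs (n + c) x
    have h2 := hsmall n t (by rw [← happ (n + c) x t ht.symm, hx, map_zero])
    rw [map_zero, ← h2]
    exact hleY (Nat.le_add_right n c) ht.symm
  · choose s hs using hex y
    obtain ⟨x, hx⟩ := hlimY (fun n => πY n (hY (s (n + c)))) fun n => by
      rw [htY]
      have h1 := hsmall n (s (n + 1 + c) - s (n + c)) (by
        rw [map_sub, map_sub, hs (n + c), hleX (show n + c ≤ n + 1 + c by omega) (hs (n + 1 + c)), sub_self])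
      rw [map_sub, map_sub, sub_eq_zero] at h1
      exact h1
    refine ⟨x, hextX _ _ fun n => ?_⟩
    rw [happ n x (s (n + c)) (hx n)]
    exact hleX (Nat.le_add_right n c) (hs (n + c))

end Approx

section Basis

variable {𝔛 : FSch.Sys.{u}} {h : 𝔛.IsFormal} {M N : FSch.ModF 𝔛 h} (φ : M ⟶ N) (P : (𝔛.X 0).Opens → Prop)

/-- A map which is bijective on the sections over a basis is invertible. -/
theorem isIso_of_basis (hP : ∀ (W : (𝔛.X 0).Opens), ∀ x ∈ W, ∃ Z, P Z ∧ x ∈ Z ∧ Z ≤ W)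
    (hb : ∀ W, P W → Function.Bijective (φ.val.app (op W))) : IsIso φ := by
  let sM : TopCat.Sheaf AddCommGrpCat.{u} (𝔛.X 0).carrier := ⟨M.val.presheaf, M.isSheaf⟩
  let sN : TopCat.Sheaf AddCommGrpCat.{u} (𝔛.X 0).carrier := ⟨N.val.presheaf, N.isSheaf⟩
  have hres : ∀ {W Z : (𝔛.X 0).Opens} (e : Z ≤ W) (m : M.val.obj (op W)),
      φ.val.app (op Z) (M.val.presheaf.map (homOfLE e).op m) = N.val.presheaf.map (homOfLE e).op (φ.val.app (op W) m) :=
    fun e m => PresheafOfModules.naturality_apply φ.val (homOfLE e).op m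
  have hinj : ∀ (W : (𝔛.X 0).Opens) (a b : M.val.obj (op W)), φ.val.app (op W) a = φ.val.app (op W) b → a = b := by
    intro W a b hab
    refine TopCat.Sheaf.eq_of_locally_eq' sM (fun Z : {Z : (𝔛.X 0).Opens // P Z ∧ Z ≤ W} => Z.1) W
      (fun Z => homOfLE Z.2.2) (fun x hx => ?_) a b fun Z => ?_
    · obtain ⟨Z, hZ, hxZ, hZW⟩ := hP W x hx
      exact Opens.mem_iSup.2 ⟨⟨Z, hZ, hZW⟩, hxZ⟩
    · refine (hb Z.1 Z.2.1).1 ?_
      exact ((hres Z.2.2 a).trans (congrArg _ hab)).trans (hres Z.2.2 b).symm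
  have hsurj : ∀ (W : (𝔛.X 0).Opens) (y : N.val.obj (op W)), ∃ a, φ.val.app (op W) a = y := by
    intro W y
    choose x hx using fun Z : {Z : (𝔛.X 0).Opens // P Z ∧ Z ≤ W} =>
      (hb Z.1 Z.2.1).2 (N.val.presheaf.map (homOfLE Z.2.2).op y)
    obtain ⟨a, ha, -⟩ := TopCat.Sheaf.existsUnique_gluing' sM
      (fun Z : {Z : (𝔛.X 0).Opens // P Z ∧ Z ≤ W} => Z.1) W (fun Z => homOfLE Z.2.2) (fun t ht => by
        obtain ⟨Z, hZ, hxZ, hZW⟩ := hP W t ht
        exact Opens.mem_iSup.2 ⟨⟨Z, hZ, hZW⟩, hxZ⟩) x (fun Z Z' => by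
        refine hinj _ _ _ ?_
        refine ((hres inf_le_left (x Z)).trans (congrArg _ (hx Z))).trans ?_
        refine Eq.trans ?_ ((hres inf_le_right (x Z')).trans (congrArg _ (hx Z'))).symm
        show N.val.presheaf.map _ (N.val.presheaf.map _ y) = N.val.presheaf.map _ (N.val.presheaf.map _ y)
        rw [← CategoryTheory.ConcreteCategory.comp_apply, ← CategoryTheory.ConcreteCategory.comp_apply,
          ← Functor.map_comp, ← Functor.map_comp]
        rfl)
    refine ⟨a, ?_⟩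
    refine TopCat.Sheaf.eq_of_locally_eq' sN (fun Z : {Z : (𝔛.X 0).Opens // P Z ∧ Z ≤ W} => Z.1) W
      (fun Z => homOfLE Z.2.2) (fun t ht => ?_) _ y fun Z => ?_
    · obtain ⟨Z, hZ, hxZ, hZW⟩ := hP W t ht
      exact Opens.mem_iSup.2 ⟨⟨Z, hZ, hZW⟩, hxZ⟩
    · exact ((hres Z.2.2 a).symm.trans (congrArg _ (ha Z))).trans (hx Z)
  let ψ := (SheafOfModules.forget _).map φ
  haveI : ∀ U, IsIso (((PresheafOfModules.toPresheaf _).map ψ).app U) := fun U => by
    rw [ConcreteCategory.isIso_iff_bijective]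
    exact ⟨hinj U.unop, hsurj U.unop⟩
  haveI : IsIso ((PresheafOfModules.toPresheaf _).map ψ) := NatIso.isIso_of_isIso_app _
  haveI : IsIso ψ := isIso_of_reflects_iso ψ (PresheafOfModules.toPresheaf _)
  exact @isIso_of_reflects_iso _ _ _ _ _ _ φ (SheafOfModules.forget _) _
    (SheafOfModules.fullyFaithfulForget _).reflectsIsomorphisms

end Basis

end Groth.Agent.FExist
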