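import Groth.Agent.FExistLib.BcSec
import Groth.Agent.RpushLib.Finite

/-!
# The completion of a direct image along a proper morphism
-/

set_option autoImplicit false
set_option linter.style.haveILetI false
set_option linter.unusedVariables false
set_option linter.unusedSectionVars false
set_option backward.isDefEq.respectTransparency false
set_option backward.isDefEq.respectTransparency.types false
set_option maxHeartbeats 1000000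

universe u

open CategoryTheory CategoryTheory.Limits AlgebraicGeometry TopologicalSpace Opposite

noncomputable section

namespace Groth.Agent.FExist

open Groth.Agent.FCompl

variable {X Y : Scheme.{u}} (f : X ⟶ Y) (𝓘 : Y.IdealSheafData) (𝓚 : X.IdealSheafData) (hpc : FSch.PowCompat f 𝓚 𝓘)
  (hX : (FSch.completionAlong X 𝓚).IsFormal) (hY : (FSch.completionAlong Y 𝓘).IsFormal) (F : X.Modules)

lemma preimage_upO (U : Y.Opens) :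
    (FSch.completionMap f 𝓚 𝓘 hpc : FSch.Hom _ _).app 0 ⁻¹ᵁ upO 𝓘 U = upO 𝓚 (f ⁻¹ᵁ U) := by
  show _ ⁻¹ᵁ (_ ⁻¹ᵁ U) = _ ⁻¹ᵁ (f ⁻¹ᵁ U)
  rw [← Scheme.Hom.comp_preimage, ← Scheme.Hom.comp_preimage, FSch.completionMap_sq f 𝓚 𝓘 hpc 0]

variable (θ : (FSch.complMod 𝓘 ((Scheme.Modules.pushforward f).obj F)).realMod hY ⟶
  (FSch.pushF (FSch.completionMap f 𝓚 𝓘 hpc) hX hY).obj ((FSch.complMod 𝓚 F).realMod hX))

/-- A map to a direct image, on sections over preimages. -/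
def secPush (U : Y.Opens) : OM hY (FSch.complMod 𝓘 ((Scheme.Modules.pushforward f).obj F)) (upO 𝓘 U) →+
    OM hX (FSch.complMod 𝓚 F) (upO 𝓚 (f ⁻¹ᵁ U)) :=
  (rsOM hX (FSch.complMod 𝓚 F) (preimage_upO f 𝓘 𝓚 hpc U).ge).comp (θ.val.app (op (upO 𝓘 U))).hom.toAddMonoidHom

lemma secPush_bijective_imp (U : Y.Opens) (h : Function.Bijective (secPush f 𝓘 𝓚 hpc hX hY F θ U)) :
    Function.Bijective (θ.val.app (op (upO 𝓘 U))) := by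
  have hr : ∀ x, rsOM hX (FSch.complMod 𝓚 F) (preimage_upO f 𝓘 𝓚 hpc U).le
      (rsOM hX (FSch.complMod 𝓚 F) (preimage_upO f 𝓘 𝓚 hpc U).ge x) = x := fun x => by
    refine om_ext _ fun k => ?_
    rw [pm_rsOM, pm_rsOM]
    exact (CohBase.restr_trans _ _ _ _).trans (CohBase.restr_self _ _ _)
  refine ⟨fun a b hab => h.1 (congrArg (rsOM hX (FSch.complMod 𝓚 F) (preimage_upO f 𝓘 𝓚 hpc U).ge) hab), fun y => ?_⟩
  obtain ⟨a, ha⟩ := h.2 (rsOM hX (FSch.complMod 𝓚 F) (preimage_upO f 𝓘 𝓚 hpc U).ge y)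
  exact ⟨a, ((hr _).symm.trans (congrArg _ ha)).trans (hr y)⟩

lemma secPush_smul (U : Y.Opens) (a : OR (FSch.completionAlong Y 𝓘) hY (upO 𝓘 U))
    (y : OM hY (FSch.complMod 𝓘 ((Scheme.Modules.pushforward f).obj F)) (upO 𝓘 U)) (k : ℕ)
    (ha : pr (FSch.completionAlong Y 𝓘) hY (upO 𝓘 U) k a = 0) :
    pm hX (FSch.complMod 𝓚 F) (upO 𝓚 (f ⁻¹ᵁ U)) k (secPush f 𝓘 𝓚 hpc hX hY F θ U (a • y)) = 0 := by
  let φ := FSch.completionMap f 𝓚 𝓘 hpc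
  let a' : OR (FSch.completionAlong X 𝓚) hX ((φ : FSch.Hom _ _).app 0 ⁻¹ᵁ upO 𝓘 U) :=
    ((FSch.Hom.sharp φ hX hY).hom.app (op (upO 𝓘 U))).hom a
  have h1 : pr (FSch.completionAlong X 𝓚) hX ((φ : FSch.Hom _ _).app 0 ⁻¹ᵁ upO 𝓘 U) k a' = 0 :=
    (congr(($(FSch.Hom.sharp_proj φ hX hY k)).hom.app (op (upO 𝓘 U)) a)).trans
      ((congrArg _ ha).trans (map_zero ((FSch.Hom.levelPush φ hX hY k).hom.app (op (upO 𝓘 U))).hom))
  have h2 : secPush f 𝓘 𝓚 hpc hX hY F θ U (a • y) =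
      rsOM hX (FSch.complMod 𝓚 F) (preimage_upO f 𝓘 𝓚 hpc U).ge
        (a' • (show OM hX (FSch.complMod 𝓚 F) _ from θ.val.app (op (upO 𝓘 U)) y)) :=
    congrArg (rsOM hX (FSch.complMod 𝓚 F) (preimage_upO f 𝓘 𝓚 hpc U).ge)
      (map_smul (θ.val.app (op (upO 𝓘 U))).hom a y)
  rw [h2, pm_rsOM, pm_smul, h1, zero_smul, map_zero]

variable [IsLocallyNoetherian X] [IsLocallyNoetherian Y] [IsProper f] (h𝓚 : 𝓚 = 𝓘.comap f) (hF : Coh.IsCoh F)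
  (hθ : ∀ (U : Y.Opens) (m : Γ((Scheme.Modules.pushforward f).obj F, U)),
    secPush f 𝓘 𝓚 hpc hX hY F θ U (hat 𝓘 hY ((Scheme.Modules.pushforward f).obj F) U m) = hat 𝓚 hX F (f ⁻¹ᵁ U) m)

include hF in
lemma pm_secPush_eq_zero {U : Y.Opens} (hU : IsAffineOpen U) (k : ℕ)
    (x : OM hY (FSch.complMod 𝓘 ((Scheme.Modules.pushforward f).obj F)) (upO 𝓘 U))
    (hx : pm hY (FSch.complMod 𝓘 ((Scheme.Modules.pushforward f).obj F)) (upO 𝓘 U) k x = 0) :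
    pm hX (FSch.complMod 𝓚 F) (upO 𝓚 (f ⁻¹ᵁ U)) k (secPush f 𝓘 𝓚 hpc hX hY F θ U x) = 0 := by
  have hL := S3854.result Y 𝓘
  haveI := hF.1
  have hN := RpushLib.isCoh_push f hF
  have hcoh : (FSch.complMod 𝓘 ((Scheme.Modules.pushforward f).obj F)).IsCoh := fun n =>
    PullbackMod.isCoh_pullback (FSch.completionToX Y 𝓘 n) _ hN
  have hU0 : IsAffineOpen (upO 𝓘 U) := hU.preimage _
  have h1 := (((mod_main _ hL hcoh hU0 (h := hY)).2 k).2 x).1 hx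
  refine Submodule.smul_induction_on h1 (fun a ha y _ => ?_) fun y z hy hz => by
    rw [map_add, map_add, hy, hz, add_zero]
  refine secPush_smul f 𝓘 𝓚 hpc hX hY F θ U a y k ?_
  rw [← ker_pr hL hU0] at ha
  exact ha

include h𝓚 hF in
/-- Sections with small images are small, and sections of the completion are approximated. -/
theorem exists_bounds {U : Y.Opens} (hU : IsAffineOpen U) : ∃ c : ℕ,
    (∀ (n : ℕ) (t : Γ((Scheme.Modules.pushforward f).obj F, U)),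
      pm hX (FSch.complMod 𝓚 F) (upO 𝓚 (f ⁻¹ᵁ U)) (n + c) (hat 𝓚 hX F (f ⁻¹ᵁ U) t) = 0 →
        t ∈ 𝓘.ideal ⟨U, hU⟩ ^ (n + 1) • (⊤ : Submodule Γ(Y, U) Γ((Scheme.Modules.pushforward f).obj F, U))) ∧
    ∀ (y : OM hX (FSch.complMod 𝓚 F) (upO 𝓚 (f ⁻¹ᵁ U))) (n : ℕ),
      ∃ s : Γ((Scheme.Modules.pushforward f).obj F, U),
        pm hX (FSch.complMod 𝓚 F) (upO 𝓚 (f ⁻¹ᵁ U)) n (hat 𝓚 hX F (f ⁻¹ᵁ U) s) =
          pm hX (FSch.complMod 𝓚 F) (upO 𝓚 (f ⁻¹ᵁ U)) n y := by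
  obtain ⟨ι, hι, W, hW, haW, haW2, hcov, c, hc1, hc2⟩ :=
    FormalSys.exists_section_bounds f hU hF (𝓘.ideal ⟨U, hU⟩)
  have hI : ∀ {V : X.Opens} (hV : IsAffineOpen V) (hVU : V ≤ f ⁻¹ᵁ U),
      𝓚.ideal ⟨V, hV⟩ = (𝓘.ideal ⟨U, hU⟩).map (f.appLE U V hVU).hom := fun hV hVU => by
    subst h𝓚
    exact IdealStalkLib.comap_ideal 𝓘 f hU hV hVU
  have hzero : ∀ {V : X.Opens} (hV : IsAffineOpen V) (hVU : V ≤ f ⁻¹ᵁ U) (k : ℕ) (s : Γ(F, V)),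
      pm hX (FSch.complMod 𝓚 F) (upO 𝓚 V) k (hat 𝓚 hX F V s) = 0 ↔
        s ∈ (𝓘.ideal ⟨U, hU⟩).map (f.appLE U V hVU).hom ^ (k + 1) • (⊤ : Submodule Γ(X, V) Γ(F, V)) :=
    fun hV hVU k s => by
      rw [← hI hV hVU]
      exact (pm_hat_surj_ker 𝓚 hX F hF.1 hV k).2 s
  refine ⟨c, fun n t ht => ?_, fun y n => ?_⟩
  · have h1 := hc1 (n + c + 1) t fun a => (hzero (haW a) (hW a) (n + c) _).1 (by
      rw [← hat_res 𝓚 hX F (hW a), pm_rsOM, ht, map_zero])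
    rwa [show n + c + 1 - c = n + 1 by omega] at h1
  · choose z hz using fun a => (pm_hat_surj_ker 𝓚 hX F hF.1 (haW a) (n + c)).1
      (pm hX (FSch.complMod 𝓚 F) (upO 𝓚 (W a)) (n + c) (rsOM hX (FSch.complMod 𝓚 F) (upO_mono 𝓚 (hW a)) y))
    obtain ⟨s, hs⟩ := hc2 (n + 1) z fun a b => by
      rw [show n + 1 + c = n + c + 1 by omega]
      refine (hzero (haW2 a b) (inf_le_left.trans (hW a)) (n + c) _).1 ?_
      rw [map_sub, map_sub, ← hat_res 𝓚 hX F inf_le_left, ← hat_res 𝓚 hX F inf_le_right, pm_rsOM, pm_rsOM,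
        hz, hz, pm_rsOM, pm_rsOM]
      exact sub_eq_zero.2 ((CohBase.restr_trans _ _ _ _).trans (CohBase.restr_trans _ _ _ _).symm)
    refine ⟨s, pm_ext_cover 𝓚 hX F hW hcov n fun a => ?_⟩
    have h1 := (hzero (haW a) (hW a) n _).2 (hs a)
    rw [map_sub, map_sub, sub_eq_zero] at h1
    rw [hat_res 𝓚 hX F (hW a)]
    exact h1.trans (pm_congr_le 𝓚 hX F (Nat.le_add_right n c) (hz a))

/-- Bijectivity from approximation, for sections of two systems. -/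
theorem bij_gen {𝔛 𝔜 : FSch.Sys.{u}} (hX : 𝔛.IsFormal) (hY : 𝔜.IsFormal) (𝔐 : FSch.ModSys 𝔛) (𝔑 : FSch.ModSys 𝔜)
    (V : (𝔛.X 0).Opens) (V' : (𝔜.X 0).Opens) {N : Type u} [AddCommGroup N] (hy : N →+ OM hY 𝔑 V') (hx : N →+ OM hX 𝔐 V)
    (Φ : OM hY 𝔑 V' →+ OM hX 𝔐 V) (c : ℕ) (hYs : ∀ k x, ∃ t, pm hY 𝔑 V' k (hy t) = x)
    (hΦh : ∀ t, Φ (hy t) = hx t) (hΦ : ∀ k z, pm hY 𝔑 V' k z = 0 → pm hX 𝔐 V k (Φ z) = 0)
    (hsmall : ∀ n t, pm hX 𝔐 V (n + c) (hx t) = 0 → pm hY 𝔑 V' n (hy t) = 0)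
    (hex : ∀ y n, ∃ s, pm hX 𝔐 V n (hx s) = pm hX 𝔐 V n y)
    (hleY : ∀ {n k : ℕ}, n ≤ k → ∀ {x y}, pm hY 𝔑 V' k x = pm hY 𝔑 V' k y → pm hY 𝔑 V' n x = pm hY 𝔑 V' n y)
    (hleX : ∀ {n k : ℕ}, n ≤ k → ∀ {x y}, pm hX 𝔐 V k x = pm hX 𝔐 V k y → pm hX 𝔐 V n x = pm hX 𝔐 V n y) :
    Function.Bijective Φ :=
  bijective_of_approx (fun k => pm hY 𝔑 V' k) (fun k => pm hX 𝔐 V k) (fun k => tm hY 𝔑 V' k) hy hx Φ c
    (fun k x => hYs k _) hΦh hΦ hsmall hex hleY hleX (fun n x => tm_pm _ n x)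
    (fun x y h => om_ext _ h) (fun x y h => om_ext _ h) (fun b hb => (om_existsUnique _ b hb).exists)

include h𝓚 hF hθ in
/-- The map is bijective on sections over preimages of affine opens. -/
theorem secPush_bijective {U : Y.Opens} (hU : IsAffineOpen U) :
    Function.Bijective (secPush f 𝓘 𝓚 hpc hX hY F θ U) := by
  haveI := hF.1
  obtain ⟨c, hc1, hc2⟩ := exists_bounds f 𝓘 𝓚 hX F h𝓚 hF hU
  have hk := fun k => pm_hat_surj_ker 𝓘 hY ((Scheme.Modules.pushforward f).obj F) (RpushLib.isCoh_push f hF).1 hU k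
  have hs : ∀ n (t : Γ((Scheme.Modules.pushforward f).obj F, U)), _ → _ := fun n t ht => ((hk n).2 t).2 (hc1 n t ht)
  exact bij_gen hX hY (FSch.complMod 𝓚 F) (FSch.complMod 𝓘 ((Scheme.Modules.pushforward f).obj F)) (upO 𝓚 (f ⁻¹ᵁ U))
    (upO 𝓘 U) (hat 𝓘 hY ((Scheme.Modules.pushforward f).obj F) U) (hat 𝓚 hX F (f ⁻¹ᵁ U))
    (secPush f 𝓘 𝓚 hpc hX hY F θ U) c (fun k => (hk k).1) (hθ U)
    (fun k z hz => pm_secPush_eq_zero f 𝓘 𝓚 hpc hX hY F θ hF hU k z hz)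
    hs hc2
    (fun h => pm_congr_le 𝓘 hY _ h) (fun h => pm_congr_le 𝓚 hX F h)

/-- The section form of a transposed base change identity. -/
theorem sec_of_key {X₁ Y₁ : Scheme.{u}} {𝔛 𝔜 : FSch.Sys.{u}} (φ : 𝔛 ⟶ 𝔜) (h𝔛 : 𝔛.IsFormal) (h𝔜 : 𝔜.IsFormal)
    (g : X₁ ⟶ Y₁) (p : ∀ n, 𝔛.X n ⟶ X₁) (hp : ∀ n, 𝔛.ι n ≫ p (n + 1) = p n) (r : ∀ n, 𝔜.X n ⟶ Y₁)
    (hr : ∀ n, 𝔜.ι n ≫ r (n + 1) = r n) (hsq : ∀ n, p n ≫ g = (φ : FSch.Hom 𝔛 𝔜).app n ≫ r n)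
    (G : X₁.Modules) (T : FSch.ModF 𝔛 h𝔛) (T' : FSch.ModF 𝔜 h𝔜)
    (α : G ⟶ (FSch.toSchemeMor 𝔛 h𝔛 p hp).push.obj T)
    (β : (Scheme.Modules.pushforward g).obj G ⟶ (FSch.toSchemeMor 𝔜 h𝔜 r hr).push.obj T')
    (t : T' ⟶ (FSch.pushF φ h𝔛 h𝔜).obj T)
    (hk : β ≫ (FSch.toSchemeMor 𝔜 h𝔜 r hr).push.map t = (Scheme.Modules.pushforward g).map α ≫
      (FSch.schPushSq φ h𝔛 h𝔜 g p hp r hr hsq).hom.app T)
    (U : Y₁.Opens) (e : (φ : FSch.Hom 𝔛 𝔜).app 0 ⁻¹ᵁ r 0 ⁻¹ᵁ U ≤ p 0 ⁻¹ᵁ g ⁻¹ᵁ U)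
    (m : Γ((Scheme.Modules.pushforward g).obj G, U)) :
    (show T.val.obj (op ((φ : FSch.Hom 𝔛 𝔜).app 0 ⁻¹ᵁ r 0 ⁻¹ᵁ U)) from
      t.val.app (op (r 0 ⁻¹ᵁ U)) (β.val.app (op U) m)) =
      T.val.presheaf.map (homOfLE e).op (α.val.app (op (g ⁻¹ᵁ U)) m) :=
  congr(($hk).val.app (op U) m)

/-- The transpose of the base change map over schemes. -/
theorem schBcMap_transpose {X₁ Y₁ : Scheme.{u}} {𝔛 𝔜 : FSch.Sys.{u}} (φ : 𝔛 ⟶ 𝔜) (h𝔛 : 𝔛.IsFormal) (h𝔜 : 𝔜.IsFormal)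
    (g : X₁ ⟶ Y₁) (p : ∀ n, 𝔛.X n ⟶ X₁) (hp : ∀ n, 𝔛.ι n ≫ p (n + 1) = p n) (r : ∀ n, 𝔜.X n ⟶ Y₁)
    (hr : ∀ n, 𝔜.ι n ≫ r (n + 1) = r n) (hsq : ∀ n, p n ≫ g = (φ : FSch.Hom 𝔛 𝔜).app n ≫ r n) (G : X₁.Modules) :
    (FSch.toSchemeMor 𝔜 h𝔜 r hr).adj.homEquiv ((Scheme.Modules.pushforward g).obj G)
        ((FSch.pushF φ h𝔛 h𝔜).obj ((FSch.toSchemeMor 𝔛 h𝔛 p hp).pull.obj G))
        (FSch.schBcMap φ h𝔛 h𝔜 g p hp r hr hsq G) =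
      (Scheme.Modules.pushforward g).map ((FSch.toSchemeMor 𝔛 h𝔛 p hp).adj.unit.app G) ≫
        (FSch.schPushSq φ h𝔛 h𝔜 g p hp r hr hsq).hom.app ((FSch.toSchemeMor 𝔛 h𝔛 p hp).pull.obj G) :=
  ModSite.RMor.bcMap_transpose (FSch.schSharp_sq φ h𝔛 h𝔜 g p hp r hr hsq) G

/-- Going to an equal open and back. -/
theorem rsOM_rsOM {𝔛 : FSch.Sys.{u}} {h : 𝔛.IsFormal} (𝔐 : FSch.ModSys 𝔛) {V V' : (𝔛.X 0).Opens} (e : V' ≤ V)
    (e' : V ≤ V') (x : OM h 𝔐 V) : rsOM h 𝔐 e' (rsOM h 𝔐 e x) = x := by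
  refine om_ext _ fun k => ?_
  rw [pm_rsOM, pm_rsOM]
  exact (CohBase.restr_trans _ _ _ _).trans (CohBase.restr_self _ _ _)

omit hF in
/-- The transpose condition gives the values on completed sections. -/
theorem secPush_hat
    (hkey : hatHom 𝓘 hY ((Scheme.Modules.pushforward f).obj F) ≫
        (FSch.toSchemeMor (FSch.completionAlong Y 𝓘) hY (FSch.completionToX Y 𝓘) (FSch.completionToX_comm Y 𝓘)).push.map θ =
      (Scheme.Modules.pushforward f).map (hatHom 𝓚 hX F) ≫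
        (FSch.schPushSq (FSch.completionMap f 𝓚 𝓘 hpc) hX hY f (FSch.completionToX X 𝓚) (FSch.completionToX_comm X 𝓚)
          (FSch.completionToX Y 𝓘) (FSch.completionToX_comm Y 𝓘) (FSch.completionMap_sq f 𝓚 𝓘 hpc)).hom.app
            ((FSch.complMod 𝓚 F).realMod hX))
    (U : Y.Opens) (m : Γ((Scheme.Modules.pushforward f).obj F, U)) :
    secPush f 𝓘 𝓚 hpc hX hY F θ U (hat 𝓘 hY ((Scheme.Modules.pushforward f).obj F) U m) = hat 𝓚 hX F (f ⁻¹ᵁ U) m := by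
  have h1 := sec_of_key (FSch.completionMap f 𝓚 𝓘 hpc) hX hY f (FSch.completionToX X 𝓚) (FSch.completionToX_comm X 𝓚)
    (FSch.completionToX Y 𝓘) (FSch.completionToX_comm Y 𝓘) (FSch.completionMap_sq f 𝓚 𝓘 hpc) F
    ((FSch.complMod 𝓚 F).realMod hX) ((FSch.complMod 𝓘 ((Scheme.Modules.pushforward f).obj F)).realMod hY)
    (hatHom 𝓚 hX F) (hatHom 𝓘 hY ((Scheme.Modules.pushforward f).obj F)) θ hkey U
    (preimage_upO f 𝓘 𝓚 hpc U).le m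
  exact (congrArg (rsOM hX (FSch.complMod 𝓚 F) (preimage_upO f 𝓘 𝓚 hpc U).ge) h1).trans
    (rsOM_rsOM (FSch.complMod 𝓚 F) (preimage_upO f 𝓘 𝓚 hpc U).le (preimage_upO f 𝓘 𝓚 hpc U).ge _)

omit hF in
include h𝓚 in
/-- The base change map of completions is invertible. -/
theorem isIso_schBcMap (hF : Coh.IsCoh F) :
    IsIso (FSch.schBcMap (FSch.completionMap f 𝓚 𝓘 hpc) hX hY f
      (FSch.completionToX X 𝓚) (FSch.completionToX_comm X 𝓚)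
      (FSch.completionToX Y 𝓘) (FSch.completionToX_comm Y 𝓘)
      (FSch.completionMap_sq f 𝓚 𝓘 hpc) F) := by
  haveI := hF.1
  haveI := complCmp_isIso Y 𝓘 hY _ (RpushLib.isCoh_push f hF)
  haveI := complCmp_isIso X 𝓚 hX F hF
  refine isIso_of_key
    (FSch.toSchemeMor (FSch.completionAlong X 𝓚) hX (FSch.completionToX X 𝓚) (FSch.completionToX_comm X 𝓚)).adj
    (FSch.toSchemeMor (FSch.completionAlong Y 𝓘) hY (FSch.completionToX Y 𝓘) (FSch.completionToX_comm Y 𝓘)).adj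
    (Scheme.Modules.pushforward f) (FSch.pushF (FSch.completionMap f 𝓚 𝓘 hpc) hX hY)
    (FSch.schPushSq (FSch.completionMap f 𝓚 𝓘 hpc) hX hY f (FSch.completionToX X 𝓚) (FSch.completionToX_comm X 𝓚)
      (FSch.completionToX Y 𝓘) (FSch.completionToX_comm Y 𝓘) (FSch.completionMap_sq f 𝓚 𝓘 hpc)).hom
    (complCmp X 𝓚 hX F) (complCmp Y 𝓘 hY ((Scheme.Modules.pushforward f).obj F)) _ ?_ fun θ hkey => ?_
  · exact schBcMap_transpose _ hX hY f _ _ _ _ _ F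
  · exact isIso_of_basis θ (fun Z => ∃ U : Y.Opens, IsAffineOpen U ∧ Z = upO 𝓘 U)
      (fun W x hx => by
        obtain ⟨O, hO, hOW⟩ := (FSch.completionToX Y 𝓘 0).isClosedEmbedding.isInducing.isOpen_iff.1 W.2
        have hxO : FSch.completionToX Y 𝓘 0 x ∈ O := (Set.ext_iff.1 hOW x).2 hx
        obtain ⟨_, ⟨U, hU, rfl⟩, hxU, hUO⟩ := Y.isBasis_affineOpens.exists_subset_of_mem_open hxO hO
        exact ⟨upO 𝓘 U, ⟨U, hU, rfl⟩, hxU, fun z hz => (Set.ext_iff.1 hOW z).1 (hUO hz)⟩)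
      fun Z hZ => by
        obtain ⟨U, hU, rfl⟩ := hZ
        exact secPush_bijective_imp f 𝓘 𝓚 hpc hX hY F θ U
          (secPush_bijective f 𝓘 𝓚 hpc hX hY F θ h𝓚 hF (secPush_hat f 𝓘 𝓚 hpc hX hY F θ hkey) hU)

end Groth.Agent.FExist
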