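import Groth.Agent.FExistLib.BcAbs
import Groth.Agent.FormalSysLib.IdealQuot
import Groth.Agent.FormalSysLib.PushFF
import Groth.Agent.IdealStalkLib.Comap
import Groth.Agent.S3854

/-!
# Sections of completions and of their direct images
-/

set_option autoImplicit false
set_option linter.style.haveILetI false
set_option linter.unusedVariables false
set_option linter.unusedSectionVars false
set_option backward.isDefEq.respectTransparency false
set_option backward.isDefEq.respectTransparency.types false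
set_option maxHeartbeats 1000000

universe u

open CategoryTheory CategoryTheory.Limits AlgebraicGeometry TopologicalSpace Opposite

noncomputable section

namespace Groth.Agent.FExist

open Groth.Agent.FCompl

section Hat

variable {X : Scheme.{u}} (𝓘 : X.IdealSheafData) (hX : (FSch.completionAlong X 𝓘).IsFormal) (F : X.Modules)

/-- The preimage of an open on the completion. -/
abbrev upO (U : X.Opens) : ((FSch.completionAlong X 𝓘).X 0).Opens := FSch.completionToX X 𝓘 0 ⁻¹ᵁ U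

lemma upO_mono {U U' : X.Opens} (e : U' ≤ U) : upO 𝓘 U' ≤ upO 𝓘 U :=
  Scheme.Hom.preimage_mono (FSch.completionToX X 𝓘 0) e

/-- The map from a module to its completion. -/
def hatHom : F ⟶ (FSch.toSchemeMor (FSch.completionAlong X 𝓘) hX (FSch.completionToX X 𝓘)
    (FSch.completionToX_comm X 𝓘)).push.obj ((FSch.complMod 𝓘 F).realMod hX) :=
  (FSch.toSchemeMor (FSch.completionAlong X 𝓘) hX (FSch.completionToX X 𝓘)
    (FSch.completionToX_comm X 𝓘)).adj.homEquiv _ _ (complCmp X 𝓘 hX F)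

/-- The completion of a section. -/
def hat (U : X.Opens) : Γ(F, U) →+ OM hX (FSch.complMod 𝓘 F) (upO 𝓘 U) :=
  ((hatHom 𝓘 hX F).val.app (op U)).hom.toAddMonoidHom

lemma pm_hat (k : ℕ) (U : X.Opens) (m : Γ(F, U)) :
    pm hX (FSch.complMod 𝓘 F) (upO 𝓘 U) k (hat 𝓘 hX F U m) =
      secLv (h := hX) (FSch.completionToX X 𝓘) (FSch.completionToX_comm X 𝓘) F k U m := by
  refine (congr(($(cmpMap_proj (FSch.completionToX X 𝓘) (FSch.completionToX_comm X 𝓘) F (FSch.complMod 𝓘 F)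
    (complθ X 𝓘 F) (complMod_compat X 𝓘 hX F) k)).val.app (op U) m)).trans ?_
  exact lvHom_app (FSch.completionToX X 𝓘) (FSch.completionToX_comm X 𝓘) F (FSch.complMod 𝓘 F) (complθ X 𝓘 F) k U m

lemma hat_res {U U' : X.Opens} (e : U' ≤ U) (m : Γ(F, U)) :
    rsOM hX (FSch.complMod 𝓘 F) (upO_mono 𝓘 e) (hat 𝓘 hX F U m) =
      hat 𝓘 hX F U' (F.presheaf.map (homOfLE e).op m) :=
  (PresheafOfModules.naturality_apply (hatHom 𝓘 hX F).val (homOfLE e).op m).symm

lemma pm_hat_surj_ker [IsLocallyNoetherian X] (hF : Coh.IsQCoh F) {U : X.Opens} (hU : IsAffineOpen U) (k : ℕ) :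
    (∀ x, ∃ m, pm hX (FSch.complMod 𝓘 F) (upO 𝓘 U) k (hat 𝓘 hX F U m) = x) ∧
      ∀ m, pm hX (FSch.complMod 𝓘 F) (upO 𝓘 U) k (hat 𝓘 hX F U m) = 0 ↔
        m ∈ 𝓘.ideal ⟨U, hU⟩ ^ (k + 1) • (⊤ : Submodule Γ(X, U) Γ(F, U)) := by
  obtain ⟨hs, hk⟩ := FormalSys.app_iqπ (𝓘 ^ (k + 1)) hF hU
  rw [Scheme.IdealSheafData.ideal_pow, Pi.pow_apply] at hk
  let G := (Scheme.Modules.pullback (FSch.completionToX X 𝓘 k)).obj F
  have hb := PullbackMod.res_bijective G
    (FSch.lvU_p _ hX (FSch.completionToX X 𝓘) (FSch.completionToX_comm X 𝓘) k U).ge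
    (FSch.lvU_p _ hX (FSch.completionToX X 𝓘) (FSch.completionToX_comm X 𝓘) k U).le
  refine ⟨fun x => ?_, fun m => ?_⟩
  · obtain ⟨y, hy⟩ := hb.2 x
    obtain ⟨m, hm⟩ := hs y
    exact ⟨m, (pm_hat 𝓘 hX F k U m).trans ((congrArg _ hm).trans hy)⟩
  · rw [pm_hat, ← hk, LinearMap.mem_ker]
    exact map_eq_zero_iff (G.presheaf.map _).hom hb.1

lemma pm_congr_le {U : ((FSch.completionAlong X 𝓘).X 0).Opens} {n k : ℕ} (hnk : n ≤ k)
    {x y : OM hX (FSch.complMod 𝓘 F) U}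
    (h : pm hX (FSch.complMod 𝓘 F) U k x = pm hX (FSch.complMod 𝓘 F) U k y) :
    pm hX (FSch.complMod 𝓘 F) U n x = pm hX (FSch.complMod 𝓘 F) U n y := by
  induction k, hnk using Nat.le_induction with
  | base => exact h
  | succ k hk ih => exact ih ((tm_pm _ k x).symm.trans ((congrArg _ h).trans (tm_pm _ k y)))

lemma pm_ext_cover {U : X.Opens} {ι : Type u} {W : ι → X.Opens} (hW : ∀ a, W a ≤ U) (hcov : U ≤ iSup W) (k : ℕ)
    {x y : OM hX (FSch.complMod 𝓘 F) (upO 𝓘 U)}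
    (h : ∀ a, pm hX (FSch.complMod 𝓘 F) (upO 𝓘 (W a)) k (rsOM hX (FSch.complMod 𝓘 F) (upO_mono 𝓘 (hW a)) x) =
      pm hX (FSch.complMod 𝓘 F) (upO 𝓘 (W a)) k (rsOM hX (FSch.complMod 𝓘 F) (upO_mono 𝓘 (hW a)) y)) :
    pm hX (FSch.complMod 𝓘 F) (upO 𝓘 U) k x = pm hX (FSch.complMod 𝓘 F) (upO 𝓘 U) k y := by
  have hl : ∀ V : X.Opens, FSch.completionToX X 𝓘 k ⁻¹ᵁ V = (FSch.completionAlong X 𝓘).lvU hX k (upO 𝓘 V) :=
    FSch.lvU_p _ hX (FSch.completionToX X 𝓘) (FSch.completionToX_comm X 𝓘) k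
  refine QCohLib.eq_of_cover ((FSch.complMod 𝓘 F).F k)
    (W := fun a => (FSch.completionAlong X 𝓘).lvU hX k (upO 𝓘 (W a)))
    (fun a => lvU_mono _ hX (upO_mono 𝓘 (hW a)) k) ?_ _ _ fun a => ?_
  · intro t ht
    rw [← hl] at ht
    obtain ⟨a, ha⟩ := Opens.mem_iSup.1 (hcov ht)
    exact Opens.mem_iSup.2 ⟨a, (hl (W a)).le ha⟩
  · exact (pm_rsOM _ (upO_mono 𝓘 (hW a)) k x).symm.trans ((h a).trans (pm_rsOM _ (upO_mono 𝓘 (hW a)) k y))

end Hat

end Groth.Agent.FExist
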