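import Groth.Agent.FormalSysLib.IdealQuot
import Groth.Agent.DCohLib.ClosedPush
import Groth.Prelude.Def_FSch3
import Groth.Agent.FExistLib.Abs
import Groth.Agent.FComplLib.Completion

/-!
# Systems of modules on a completion as towers of modules on the scheme
-/

set_option autoImplicit false
set_option linter.style.haveILetI false
set_option linter.unusedVariables false
set_option backward.isDefEq.respectTransparency false
set_option backward.isDefEq.respectTransparency.types false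
set_option maxHeartbeats 200000

universe u

open CategoryTheory CategoryTheory.Limits AlgebraicGeometry Opposite

noncomputable section

namespace Groth.Agent.FExist

variable {X : Scheme.{u}} (𝓘 : X.IdealSheafData) (𝔐 : FSch.ModSys (FSch.completionAlong X 𝓘))

/-- The adjunction of a level. -/
abbrev adjL (n : ℕ) :
    Scheme.Modules.pullback (FSch.completionToX X 𝓘 n) ⊣ Scheme.Modules.pushforward (FSch.completionToX X 𝓘 n) :=
  Scheme.Modules.pullbackPushforwardAdjunction (FSch.completionToX X 𝓘 n)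

instance isClosedImmersion_completionToX (n : ℕ) : IsClosedImmersion (FSch.completionToX X 𝓘 n) :=
  inferInstanceAs (IsClosedImmersion (𝓘 ^ (n + 1)).subschemeι)

instance isIso_counit (n : ℕ) : IsIso (adjL 𝓘 n).counit :=
  haveI : ∀ M, IsIso ((adjL 𝓘 n).counit.app M) := fun M => DCohLib.isIso_counit_closedImmersion _ M
  NatIso.isIso_of_isIso_app _

/-- Direct images from a level are fully faithful. -/
def pushFF (n : ℕ) : (Scheme.Modules.pushforward (FSch.completionToX X 𝓘 n)).FullyFaithful :=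
  (adjL 𝓘 n).fullyFaithfulROfIsIsoCounit

/-- A level as a module on the scheme. -/
abbrev obP (n : ℕ) : X.Modules := (Scheme.Modules.pushforward (FSch.completionToX X 𝓘 n)).obj (𝔐.F n)

/-- The transition of levels. -/
def tN (n : ℕ) : obP 𝓘 𝔐 (n + 1) ⟶ obP 𝓘 𝔐 n :=
  absT (adjL 𝓘 n) (adjL 𝓘 (n + 1)) (Scheme.Modules.pullback ((FSch.completionAlong X 𝓘).ι n))
    (FSch.complTransIso 𝓘 n) (𝔐.e n).hom

/-- The tower of a system. -/
def tower : ℕᵒᵖ ⥤ X.Modules := Functor.ofOpSequence (X := obP 𝓘 𝔐) (tN 𝓘 𝔐)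

lemma tower_map (n : ℕ) : (tower 𝓘 𝔐).map (homOfLE (Nat.le_succ n)).op = tN 𝓘 𝔐 n :=
  Functor.ofOpSequence_map_homOfLE_succ _ n

variable {𝓘} {𝔐} {𝔑 : FSch.ModSys (FSch.completionAlong X 𝓘)}

lemma comm_iff (φ : ∀ n, 𝔐.F n ⟶ 𝔑.F n) (n : ℕ) :
    (tN 𝓘 𝔐 n ≫ (Scheme.Modules.pushforward (FSch.completionToX X 𝓘 n)).map (φ n) =
      (Scheme.Modules.pushforward (FSch.completionToX X 𝓘 (n + 1))).map (φ (n + 1)) ≫ tN 𝓘 𝔑 n) ↔
    (Scheme.Modules.pullback ((FSch.completionAlong X 𝓘).ι n)).map (φ (n + 1)) ≫ (𝔑.e n).hom =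
      (𝔐.e n).hom ≫ φ n :=
  absT_comm_iff _ _ _ _ _ _ _ _

/-- A map of systems as a map of towers. -/
def towerMap (φ : 𝔐 ⟶ 𝔑) : tower 𝓘 𝔐 ⟶ tower 𝓘 𝔑 :=
  NatTrans.ofOpSequence (fun n => (Scheme.Modules.pushforward (FSch.completionToX X 𝓘 n)).map (φ.app n))
    fun n => by
      refine (congrArg (· ≫ _) (tower_map 𝓘 𝔐 n)).trans (Eq.trans ?_ (congrArg (_ ≫ ·) (tower_map 𝓘 𝔑 n)).symm)
      exact (comm_iff φ.app n).2 (φ.comm n)

lemma towerMap_app (φ : 𝔐 ⟶ 𝔑) (n : ℕ) :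
    (towerMap φ).app (op n) = (Scheme.Modules.pushforward (FSch.completionToX X 𝓘 n)).map (φ.app n) := rfl

theorem towerMap_injective : Function.Injective (towerMap (𝔐 := 𝔐) (𝔑 := 𝔑)) := fun φ ψ h =>
  FSch.ModSys.Hom.ext (funext fun n => (pushFF 𝓘 n).map_injective (congrArg (fun t => t.app (op n)) h))

theorem towerMap_surjective : Function.Surjective (towerMap (𝔐 := 𝔐) (𝔑 := 𝔑)) := fun τ => by
  let φ : ∀ n, 𝔐.F n ⟶ 𝔑.F n := fun n => (pushFF 𝓘 n).preimage (τ.app (op n))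
  have hφ : ∀ n, (Scheme.Modules.pushforward (FSch.completionToX X 𝓘 n)).map (φ n) = τ.app (op n) := fun n =>
    (pushFF 𝓘 n).map_preimage _
  refine ⟨⟨φ, fun n => (comm_iff φ n).1 ?_⟩, ?_⟩
  · rw [hφ, hφ, ← tower_map, ← tower_map]
    exact τ.naturality (homOfLE (Nat.le_succ n)).op
  · ext n : 2
    obtain ⟨n, rfl⟩ : ∃ k, n = op k := ⟨n.unop, rfl⟩
    exact (towerMap_app _ n).trans (hφ n)

variable (𝓘) in
/-- The levels of the completion of a module. -/
abbrev lvθ (F : X.Modules) (n : ℕ) :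
    (Scheme.Modules.pullback (FSch.completionToX X 𝓘 n)).obj F ≅ (FSch.complMod 𝓘 F).F n :=
  FCompl.complθ X 𝓘 F n

variable (𝓘) in
/-- The projection of a module to the tower of its completion. -/
def towerπ (F : X.Modules) (n : ℕ) : F ⟶ obP 𝓘 (FSch.complMod 𝓘 F) n :=
  (adjL 𝓘 n).homEquiv _ _ (lvθ 𝓘 F n).hom

lemma towerπ_eq (F : X.Modules) (n : ℕ) : towerπ 𝓘 F n =
    (adjL 𝓘 n).unit.app F ≫ (Scheme.Modules.pushforward (FSch.completionToX X 𝓘 n)).map (lvθ 𝓘 F n).hom :=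
  (adjL 𝓘 n).homEquiv_unit _ _ _

lemma towerπ_tN (F : X.Modules) (n : ℕ) :
    towerπ 𝓘 F (n + 1) ≫ tN 𝓘 (FSch.complMod 𝓘 F) n = towerπ 𝓘 F n :=
  homEquiv_absT (adjL 𝓘 n) (adjL 𝓘 (n + 1)) (Scheme.Modules.pullback ((FSch.completionAlong X 𝓘).ι n))
    (FSch.complTransIso 𝓘 n) F (lvθ 𝓘 F (n + 1)).hom (lvθ 𝓘 F n).hom ((FSch.complMod 𝓘 F).e n).hom (by
      refine (congrArg (· ≫ _) ((congrArg _ (FCompl.complθ_hom X 𝓘 F (n + 1))).trans
        (CategoryTheory.Functor.map_id _ _))).trans ?_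
      refine (Category.id_comp _).trans ?_
      refine (congrArg Iso.hom (FSch.complMod_e 𝓘 F n)).trans ?_
      exact (Category.comp_id _).symm)

lemma towerπ_map {F G : X.Modules} (φ : F ⟶ G) (n : ℕ) :
    towerπ 𝓘 F n ≫ (towerMap (FSch.complModMap 𝓘 φ)).app (op n) = φ ≫ towerπ 𝓘 G n := by
  rw [towerπ, towerπ, towerMap_app]
  refine ((adjL 𝓘 n).homEquiv_naturality_right _ _).symm.trans
    (Eq.trans (congrArg ((adjL 𝓘 n).homEquiv _ _) ?_) ((adjL 𝓘 n).homEquiv_naturality_left φ _))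
  refine (congrArg (· ≫ _) (FCompl.complθ_hom X 𝓘 F n)).trans ((Category.id_comp _).trans ?_)
  exact ((congrArg (_ ≫ ·) (FCompl.complθ_hom X 𝓘 G n)).trans (Category.comp_id _)).symm

end Groth.Agent.FExist
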