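import Groth.Agent.CohBase.Functorial

/-!
# Classes of Čech cocycles in sheaf cohomology
-/

set_option autoImplicit false
set_option linter.unusedVariables false

universe u

open CategoryTheory CategoryTheory.Limits Opposite TopologicalSpace
open Groth.Agent.CohBase

noncomputable section

namespace Groth.Agent.FExist

variable {X : Type u} [TopologicalSpace X] {ι : Type u} (U : ι → Opens X) (hcov : ⊤ ≤ iSup U)

/-- The class of a cocycle. -/
def clH {F : AbSh X} (hF : Acyclic U F) (q : ℕ) : (cdiff U F.obj q).ker →+ Sheaf.H.{u} F q :=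
  (HEquiv F q).symm.toAddMonoidHom.comp (cmp U hcov hF q)

lemma clH_surjective {F : AbSh X} (hF : Acyclic U F) (q : ℕ) : Function.Surjective (clH U hcov hF q) :=
  (HEquiv F q).symm.surjective.comp (cmp_surjective U hcov hF q)

lemma clH_eq_zero_iff {F : AbSh X} (hF : Acyclic U F) (q : ℕ) (z : (cdiff U F.obj q).ker) :
    clH U hcov hF q z = 0 ↔ z.1 ∈ Bc U F.obj q :=
  (map_eq_zero_iff _ (HEquiv F q).symm.injective).trans (cmp_eq_zero_iff U hcov hF z)

lemma clH_natural {F G : AbSh X} (hF : Acyclic U F) (hG : Acyclic U G) (f : F ⟶ G) (q : ℕ)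
    (z : (cdiff U F.obj q).ker) (z' : (cdiff U G.obj q).ker) (h : z'.1 = ccMap U f.hom q z.1) :
    Sheaf.H.map f q (clH U hcov hF q z) = clH U hcov hG q z' := by
  apply (HEquiv G q).injective
  refine (HEquiv_map f q _).trans ?_
  refine Eq.trans ?_ ((HEquiv G q).apply_symm_apply _).symm
  show hmap _ f q (HEquiv F q ((HEquiv F q).symm _)) = _
  rw [AddEquiv.apply_symm_apply]
  exact (cmp_natural U hcov hF hG f z z' h).symm

end Groth.Agent.FExist
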