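import Groth.Agent.FExistLib.Compl
import Groth.Agent.FComplLib.Mods
import Groth.Agent.FComplLib.Completion

/-!
# Sections of a completion as compatible sections of the quotients by powers of the ideal
-/

set_option autoImplicit false
set_option linter.style.haveILetI false
set_option linter.unusedVariables false
set_option linter.unusedSectionVars false
set_option backward.isDefEq.respectTransparency false
set_option backward.isDefEq.respectTransparency.types false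
set_option maxHeartbeats 1000000

universe u

open CategoryTheory CategoryTheory.Limits AlgebraicGeometry TopologicalSpace Opposite

noncomputable section

namespace Groth.Agent.FExist

open Groth.Agent.FormalSys Groth.Agent.FCompl

variable {X : Scheme.{u}} (𝓘 : X.IdealSheafData) (hX : (FSch.completionAlong X 𝓘).IsFormal)

/-- The preimage on the completion. -/
abbrev preO (W : X.Opens) : ((FSch.completionAlong X 𝓘).X 0).Opens := FSch.completionToX X 𝓘 0 ⁻¹ᵁ W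

lemma lvU_preO (k : ℕ) (W : X.Opens) :
    FSch.completionToX X 𝓘 k ⁻¹ᵁ W = (FSch.completionAlong X 𝓘).lvU hX k (preO 𝓘 W) :=
  FSch.lvU_p _ hX (FSch.completionToX X 𝓘) (FSch.completionToX_comm X 𝓘) k W

lemma preO_mono {W W' : X.Opens} (e : W' ≤ W) : preO 𝓘 W' ≤ preO 𝓘 W :=
  Scheme.Hom.preimage_mono (FSch.completionToX X 𝓘 0) e

variable (𝔐 : FSch.ModSys (FSch.completionAlong X 𝓘))

/-- Sections of a level as sections of the tower. -/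
def τlv (W : X.Opens) (k : ℕ) : LM hX 𝔐 (preO 𝓘 W) k →+ Γ(obP 𝓘 𝔐 k, W) :=
  ((𝔐.F k).presheaf.map (homOfLE (lvU_preO 𝓘 hX k W).le).op).hom

lemma τlv_bijective (W : X.Opens) (k : ℕ) : Function.Bijective (τlv 𝓘 hX 𝔐 W k) := by
  have h := lvU_preO 𝓘 hX k W
  refine Function.bijective_iff_has_inverse.2
    ⟨fun x => (𝔐.F k).presheaf.map (homOfLE h.ge).op x, fun x => ?_, fun x => ?_⟩
  · show (𝔐.F k).presheaf.map (homOfLE h.ge).op ((𝔐.F k).presheaf.map (homOfLE h.le).op x) = x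
    rw [← CategoryTheory.ConcreteCategory.comp_apply, ← Functor.map_comp]
    exact congr($((𝔐.F k).presheaf.map_id _) x)
  · show (𝔐.F k).presheaf.map (homOfLE h.le).op ((𝔐.F k).presheaf.map (homOfLE h.ge).op x) = x
    rw [← CategoryTheory.ConcreteCategory.comp_apply, ← Functor.map_comp]
    exact congr($((𝔐.F k).presheaf.map_id _) x)

lemma τlv_res {W W' : X.Opens} (e : W' ≤ W) (k : ℕ) (x : LM hX 𝔐 (preO 𝓘 W) k) :
    (obP 𝓘 𝔐 k).presheaf.map (homOfLE e).op (τlv 𝓘 hX 𝔐 W k x) =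
      τlv 𝓘 hX 𝔐 W' k (rsM hX 𝔐 (preO_mono 𝓘 e) k x) :=
  (CohBase.restr_trans (𝔐.F k) _ _ x).trans (CohBase.restr_trans (𝔐.F k) _ _ x).symm

lemma tN_τlv_of (W : X.Opens) (k : ℕ) {M : X.Modules} (π₁ : M ⟶ obP 𝓘 𝔐 (k + 1)) (π₀ : M ⟶ obP 𝓘 𝔐 k)
    (T : obP 𝓘 𝔐 (k + 1) ⟶ obP 𝓘 𝔐 k) (hπ : π₁ ≫ T = π₀) (m : Γ(M, W)) (s₁ : LM hX 𝔐 (FSch.completionToX X 𝓘 0 ⁻¹ᵁ W) (k + 1))
    (s₀ : LM hX 𝔐 (FSch.completionToX X 𝓘 0 ⁻¹ᵁ W) k) (h₁ : τlv 𝓘 hX 𝔐 W (k + 1) s₁ = π₁.app W m)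
    (h₀ : τlv 𝓘 hX 𝔐 W k s₀ = π₀.app W m) (hc : tm hX 𝔐 (FSch.completionToX X 𝓘 0 ⁻¹ᵁ W) k s₁ = s₀)
    (x : LM hX 𝔐 (preO 𝓘 W) (k + 1)) (hx : τlv 𝓘 hX 𝔐 W (k + 1) x = π₁.app W m) :
    T.app W (τlv 𝓘 hX 𝔐 W (k + 1) x) = τlv 𝓘 hX 𝔐 W k (tm hX 𝔐 (preO 𝓘 W) k x) := by
  obtain rfl : x = s₁ := (τlv_bijective 𝓘 hX 𝔐 W (k + 1)).1 (hx.trans h₁.symm)
  refine (congrArg (T.app W) hx).trans ?_
  refine Eq.trans ?_ ((congrArg (τlv 𝓘 hX 𝔐 W k) hc).trans h₀).symm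
  refine Eq.trans ?_ congr($(hπ).app W m)
  exact (app_comp_apply π₁ T W m).symm

variable (F : X.Modules)

variable (θ : ∀ k, (Scheme.Modules.pullback (FSch.completionToX X 𝓘 k)).obj F ≅ 𝔐.F k)

lemma τlv_secLv (W : X.Opens) (k : ℕ) (m : Γ(F, W)) :
    τlv 𝓘 hX 𝔐 W k ((θ k).hom.app _
      (secLv (h := hX) (FSch.completionToX X 𝓘) (FSch.completionToX_comm X 𝓘) F k W m)) =
      ((adjL 𝓘 k).homEquiv F (𝔐.F k) (θ k).hom).app W m := by
  let p := FSch.completionToX X 𝓘 k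
  let M := (Scheme.Modules.pullback p).obj F
  refine Eq.trans ?_ congr(($((adjL 𝓘 k).homEquiv_unit F (𝔐.F k) (θ k).hom)).app W m).symm
  refine (QCohLib.app_res (θ k).hom (lvU_preO 𝓘 hX k W).le _).symm.trans ?_
  refine congrArg ((θ k).hom.app (p ⁻¹ᵁ W)) ?_
  show M.presheaf.map _ (M.presheaf.map _ (((Scheme.Modules.pullbackPushforwardAdjunction p).unit.app F).app W m)) =
    ((Scheme.Modules.pullbackPushforwardAdjunction p).unit.app F).app W m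
  rw [← CategoryTheory.ConcreteCategory.comp_apply, ← Functor.map_comp]
  exact congr($(M.presheaf.map_id _) _)

lemma tN_τlv_gen (W : X.Opens) (k : ℕ) (T : obP 𝓘 𝔐 (k + 1) ⟶ obP 𝓘 𝔐 k)
    (hπ : (adjL 𝓘 (k + 1)).homEquiv F (𝔐.F (k + 1)) (θ (k + 1)).hom ≫ T =
      (adjL 𝓘 k).homEquiv F (𝔐.F k) (θ k).hom)
    (hθ : ∀ m : Γ(F, W), tm hX 𝔐 (FSch.completionToX X 𝓘 0 ⁻¹ᵁ W) k ((θ (k + 1)).hom.app _
      (secLv (h := hX) (FSch.completionToX X 𝓘) (FSch.completionToX_comm X 𝓘) F (k + 1) W m)) =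
      (θ k).hom.app _ (secLv (h := hX) (FSch.completionToX X 𝓘) (FSch.completionToX_comm X 𝓘) F k W m))
    (hs : Function.Surjective (((adjL 𝓘 (k + 1)).homEquiv F (𝔐.F (k + 1)) (θ (k + 1)).hom).app W))
    (x : LM hX 𝔐 (preO 𝓘 W) (k + 1)) :
    T.app W (τlv 𝓘 hX 𝔐 W (k + 1) x) = τlv 𝓘 hX 𝔐 W k (tm hX 𝔐 (preO 𝓘 W) k x) := by
  obtain ⟨m, hm⟩ := hs (τlv 𝓘 hX 𝔐 W (k + 1) x)
  exact tN_τlv_of 𝓘 hX 𝔐 W k _ _ T hπ m _ _ (τlv_secLv 𝓘 hX 𝔐 F θ W (k + 1) m) (τlv_secLv 𝓘 hX 𝔐 F θ W k m)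
    (hθ m) x hm.symm

variable {A : Type u} [CommRing A] {J : Ideal A} [X.Over (Spec (CommRingCat.of A))] [AlgebraicGeometry.IsNoetherian X]
  (h𝓘 : 𝓘 = (FSch.idealSpec A J).comap (X ↘ Spec (CommRingCat.of A)))

include h𝓘

/-- Transitions of the tower are the transitions of the levels. -/
theorem tN_τlv (hF : Coh.IsQCoh F) {W : X.Opens} (hW : IsAffineOpen W) (k : ℕ)
    (x : LM hX (FSch.complMod 𝓘 F) (preO 𝓘 W) (k + 1)) :
    (tN 𝓘 (FSch.complMod 𝓘 F) k).app W (τlv 𝓘 hX (FSch.complMod 𝓘 F) W (k + 1) x) =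
      τlv 𝓘 hX (FSch.complMod 𝓘 F) W k (tm hX (FSch.complMod 𝓘 F) (preO 𝓘 W) k x) := by
  exact tN_τlv_gen 𝓘 hX (FSch.complMod 𝓘 F) F (complθ X 𝓘 F) W k (tN 𝓘 (FSch.complMod 𝓘 F) k)
    (towerπ_tN (𝓘 := 𝓘) F k) (complMod_compat X 𝓘 hX F k W)
    (app_homEquiv_iso h𝓘 (k + 1) hF (lvθ 𝓘 F (k + 1)) W hW).1 x

variable {F} (β : Formal.completion J F ≅ tower 𝓘 (FSch.complMod 𝓘 F))

omit h𝓘 in
/-- The level of a section of the completion. -/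
def ξ (W : X.Opens) (k : ℕ) : OM hX (FSch.complMod 𝓘 F) (preO 𝓘 W) →+ Γ(Formal.modPow J (k + 1) F, W) :=
  (((β.inv.app (op k)).app W).hom.comp (τlv 𝓘 hX (FSch.complMod 𝓘 F) W k)).comp
    (pm hX (FSch.complMod 𝓘 F) (preO 𝓘 W) k)

omit h𝓘 in
lemma ξ_res {W W' : X.Opens} (e : W' ≤ W) (k : ℕ) (x : OM hX (FSch.complMod 𝓘 F) (preO 𝓘 W)) :
    (Formal.modPow J (k + 1) F).presheaf.map (homOfLE e).op (ξ 𝓘 hX β W k x) =
      ξ 𝓘 hX β W' k (rsOM hX (FSch.complMod 𝓘 F) (preO_mono 𝓘 e) x) := by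
  refine (QCohLib.app_res (β.inv.app (op k)) e _).symm.trans ?_
  refine congrArg ((β.inv.app (op k)).app W') ?_
  refine (τlv_res 𝓘 hX _ e k _).trans (congrArg (τlv 𝓘 hX _ W' k) ?_)
  exact (pm_rsOM _ (preO_mono 𝓘 e) k x).symm

omit h𝓘 in
lemma β_inv_app_injective (W : X.Opens) (k : ℕ) : Function.Injective ((β.inv.app (op k)).app W) := fun a b hab => by
  have h : ∀ c, (β.hom.app (op k)).app W ((β.inv.app (op k)).app W c) = c := fun c =>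
    congr(($(β.inv_hom_id_app (op k))).app W c)
  rw [← h a, hab, h b]

theorem trans_ξ (hF : Coh.IsQCoh F) {W : X.Opens} (hW : IsAffineOpen W) (k : ℕ)
    (x : OM hX (FSch.complMod 𝓘 F) (preO 𝓘 W)) :
    (Formal.modPowTrans J (k + 1) F).app W (ξ 𝓘 hX β W (k + 1) x) = ξ 𝓘 hX β W k x := by
  have e : (Formal.completion J F).map (homOfLE (Nat.le_succ k)).op = Formal.modPowTrans J (k + 1) F :=
    Functor.ofOpSequence_map_homOfLE_succ _ k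
  refine (congr($(e.symm).app W (ξ 𝓘 hX β W (k + 1) x))).trans ?_
  refine (congr(($(β.inv.naturality (homOfLE (Nat.le_succ k)).op)).app W
    (τlv 𝓘 hX _ W (k + 1) (pm hX (FSch.complMod 𝓘 F) (preO 𝓘 W) (k + 1) x)))).symm.trans ?_
  refine congrArg ((β.inv.app (op k)).app W) ?_
  refine (congr(($(tower_map 𝓘 (FSch.complMod 𝓘 F) k)).app W _)).trans ?_
  rw [tN_τlv 𝓘 hX F h𝓘 hF hW]
  exact congrArg _ (tm_pm _ k x)

omit h𝓘 in
theorem ξ_ext {W : X.Opens} {x y : OM hX (FSch.complMod 𝓘 F) (preO 𝓘 W)}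
    (h : ∀ k, ξ 𝓘 hX β W k x = ξ 𝓘 hX β W k y) : x = y :=
  om_ext _ fun k => (τlv_bijective 𝓘 hX _ W k).1 (β_inv_app_injective 𝓘 β W k (h k))

theorem exists_ξ_eq (hF : Coh.IsQCoh F) {W : X.Opens} (hW : IsAffineOpen W)
    (b : ∀ k, Γ(Formal.modPow J (k + 1) F, W)) (hb : ∀ k, (Formal.modPowTrans J (k + 1) F).app W (b (k + 1)) = b k) :
    ∃ x, ∀ k, ξ 𝓘 hX β W k x = b k := by
  choose y hy using fun k => (τlv_bijective 𝓘 hX (FSch.complMod 𝓘 F) W k).2 ((β.hom.app (op k)).app W (b k))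
  have hyt : ∀ k, tm hX (FSch.complMod 𝓘 F) (preO 𝓘 W) k (y (k + 1)) = y k := fun k => by
    refine (τlv_bijective 𝓘 hX (FSch.complMod 𝓘 F) W k).1 ?_
    rw [← tN_τlv 𝓘 hX F h𝓘 hF hW, hy, hy, ← hb k]
    have e : (Formal.completion J F).map (homOfLE (Nat.le_succ k)).op = Formal.modPowTrans J (k + 1) F :=
      Functor.ofOpSequence_map_homOfLE_succ _ k
    refine (congr(($(tower_map 𝓘 (FSch.complMod 𝓘 F) k)).app W _)).symm.trans ?_
    refine (congr(($(β.hom.naturality (homOfLE (Nat.le_succ k)).op)).app W (b (k + 1)))).symm.trans ?_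
    exact congrArg ((β.hom.app (op k)).app W) congr($(e).app W (b (k + 1)))
  obtain ⟨x, hx, -⟩ := om_existsUnique (FSch.complMod 𝓘 F) y hyt
  refine ⟨x, fun k => ?_⟩
  show (β.inv.app (op k)).app W (τlv 𝓘 hX _ W k (pm hX _ (preO 𝓘 W) k x)) = b k
  rw [hx, hy]
  exact congr(($(β.hom_inv_id_app (op k))).app W (b k))

end Groth.Agent.FExist
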