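import Groth.Agent.FExistLib.TowerLim
import Groth.Agent.FExistLib.CechTower
import Groth.Agent.FExistLib.CechCl
import Groth.Agent.FormalLib.Main
import Groth.Agent.ProperFin.PushCov
import Groth.Agent.FComplLib.Vanish
import Groth.Agent.FComplLib.QCColimit
import Groth.Agent.S13334

/-!
# Cohomology of a completion as a limit
-/

set_option autoImplicit false
set_option linter.style.haveILetI false
set_option linter.unusedVariables false
set_option linter.unusedSectionVars false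
set_option backward.isDefEq.respectTransparency false
set_option backward.isDefEq.respectTransparency.types false
set_option maxHeartbeats 1000000

universe u

open CategoryTheory CategoryTheory.Limits AlgebraicGeometry TopologicalSpace Opposite
open Groth.Agent.CohBase

noncomputable section

namespace Groth.Agent.FExist

open Groth.Agent.FormalSys Groth.Agent.FCompl

variable {A : Type u} [CommRing A] {X : Scheme.{u}} [X.Over (Spec (CommRingCat.of A))]

/-- The quotients as sheaves. -/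
abbrev lvAb (J : Ideal A) (F : X.Modules) (k : ℕ) : AbSh X := Coh.toAb (Formal.modPow J (k + 1) F)

/-- The transitions on cochains. -/
def trC {ι : Type u} (V : ι → X.Opens) (J : Ideal A) (F : X.Modules) (q : ℕ) {n k : ℕ} (h : n ≤ k) :
    CC V (lvAb J F k).obj q →+ CC V (lvAb J F n).obj q :=
  ccMap V ((SheafOfModules.toSheaf X.ringCatSheaf).map (FormalLib.cTrans J F n k h)).hom q

lemma cTrans_comp (J : Ideal A) (F : X.Modules) {n m k : ℕ} (h : n ≤ m) (h' : m ≤ k) :
    FormalLib.cTrans J F m k h' ≫ FormalLib.cTrans J F n m h = FormalLib.cTrans J F n k (h.trans h') :=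
  ((Formal.completion J F).map_comp (homOfLE h').op (homOfLE h).op).symm

lemma trC_trC {ι : Type u} (V : ι → X.Opens) (J : Ideal A) (F : X.Modules) (q : ℕ) {n m k : ℕ} (h : n ≤ m)
    (h' : m ≤ k) (x : CC V (lvAb J F k).obj q) : trC V J F q h (trC V J F q h' x) = trC V J F q (h.trans h') x :=
  funext fun i => congr(($(cTrans_comp J F h h')).app (inter V i) (x i))

lemma cdiff_trC {ι : Type u} (V : ι → X.Opens) (J : Ideal A) (F : X.Modules) (q : ℕ) {n k : ℕ} (h : n ≤ k)
    (x : CC V (lvAb J F k).obj q) :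
    cdiff V (lvAb J F n).obj q (trC V J F q h x) = trC V J F (q + 1) h (cdiff V (lvAb J F k).obj q x) :=
  cdiff_ccMap V _ q x

variable [IsNoetherianRing A]

lemma trC_surjective {ι : Type u} (V : ι → X.Opens)
    (haff : ∀ (m : ℕ) (i : Fin (m + 1) → ι), IsAffineOpen (inter V i))
    (J : Ideal A) {F : X.Modules} (hF : Coh.IsQCoh F) (q : ℕ) {n k : ℕ} (h : n ≤ k) :
    Function.Surjective (trC V J F q h) := fun c => by
  choose b hb using fun i => (FormalLib.secMap_modPowπ J (n + 1) F hF (haff q i)).1 (c i)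
  refine ⟨fun i => (Formal.modPowπ J (k + 1) F).app (inter V i) (b i), funext fun i => ?_⟩
  exact (congr(($(FormalLib.map_completion J n k h F)).app (inter V i) (b i))).trans (hb i)

variable [IsProper (X ↘ Spec (CommRingCat.of A))]

/-- Cocycles in the image far down lift to cocycles further up. -/
theorem exists_stab {ι : Type u} [Finite ι] (V : ι → X.Opens) (hcov : (⊤ : X.Opens) ≤ iSup V)
    (haff : ∀ (m : ℕ) (i : Fin (m + 1) → ι), IsAffineOpen (inter V i))
    (J : Ideal A) {F : X.Modules} (hF : Coh.IsCoh F) (q : ℕ) :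
    ∃ c : ℕ, ∀ (n : ℕ) (δ : CC V (lvAb J F (n + c)).obj q), cdiff V (lvAb J F (n + c)).obj q δ = 0 →
      ∃ w : CC V (lvAb J F (n + 1 + c)).obj q, cdiff V (lvAb J F (n + 1 + c)).obj q w = 0 ∧
        trC V J F q (show n ≤ n + 1 + c by omega) w = trC V J F q (Nat.le_add_right n c) δ := by
  obtain ⟨c, hc⟩ := FormalLib.exists_image_stable J hF q
  refine ⟨c, fun n δ hδ => ?_⟩
  have hac : ∀ k, Acyclic V (lvAb J F k) := fun k => by
    haveI := FormalLib.isQCoh_modPow J (k + 1) F hF.1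
    exact CohBase.acyclic_of_affine (Formal.modPow J (k + 1) F) V haff
  let cl := fun k => clH V hcov (hac k) q
  have hn : n ≤ n + c := Nat.le_add_right n c
  have hn' : n ≤ n + 1 + c := by omega
  have hz : ∀ {k : ℕ} (h : n ≤ k) (z : CC V (lvAb J F k).obj q), cdiff V (lvAb J F k).obj q z = 0 →
      cdiff V (lvAb J F n).obj q (trC V J F q h z) = 0 := fun h z hz => by
    rw [cdiff_trC, hz, map_zero]
  have hnat : ∀ {k : ℕ} (h : n ≤ k) (z : (cdiff V (lvAb J F k).obj q).ker),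
      Sheaf.H.map ((SheafOfModules.toSheaf X.ringCatSheaf).map (FormalLib.cTrans J F n k h)) q (cl k z) =
        cl n ⟨trC V J F q h z.1, hz h z.1 z.2⟩ := fun h z =>
    clH_natural V hcov (hac _) (hac n) _ q z _ rfl
  have hmem : Sheaf.H.map ((SheafOfModules.toSheaf X.ringCatSheaf).map (FormalLib.cTrans J F n (n + c) hn)) q
      (cl (n + c) ⟨δ, hδ⟩) ∈ Set.range (Sheaf.H.map ((SheafOfModules.toSheaf X.ringCatSheaf).map
        (FormalLib.cTrans J F n (n + 1 + c) hn')) q) := by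
    rw [hc n (n + 1 + c) hn' (by omega), ← hc n (n + c) hn le_rfl]
    exact Set.mem_range_self _
  obtain ⟨y, hy⟩ := hmem
  obtain ⟨w, rfl⟩ := clH_surjective V hcov (hac (n + 1 + c)) q y
  rw [hnat hn' w, hnat hn ⟨δ, hδ⟩] at hy
  have h0 := sub_eq_zero.2 hy.symm
  rw [← map_sub, clH_eq_zero_iff] at h0
  cases q with
  | zero => exact ⟨w.1, w.2, (sub_eq_zero.1 h0).symm⟩
  | succ r =>
    obtain ⟨b, hb⟩ := h0
    obtain ⟨b', rfl⟩ := trC_surjective V haff J hF.1 r hn' b
    refine ⟨w.1 + cdiff V (lvAb J F (n + 1 + c)).obj r b', ?_, ?_⟩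
    · rw [map_add, show cdiff V (lvAb J F (n + 1 + c)).obj (r + 1) w.1 = 0 from w.2, cdiff_cdiff, add_zero]
    · rw [map_add, ← cdiff_trC, hb]
      exact add_sub_cancel _ _

section Formal

variable [AlgebraicGeometry.IsNoetherian X] (𝓘 : X.IdealSheafData) (hX : (FSch.completionAlong X 𝓘).IsFormal) (F : X.Modules)

/-- The completed module as an abelian sheaf. -/
abbrev mAb : AbSh ↥((FSch.completionAlong X 𝓘).X 0) :=
  (SheafOfModules.toSheaf (ModSite.ringSh ((FSch.completionAlong X 𝓘).Osh hX))).obj ((FSch.complMod 𝓘 F).realMod hX)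

/-- The covering of the completion. -/
abbrev upCov {ι : Type u} (V : ι → X.Opens) : ι → ((FSch.completionAlong X 𝓘).X 0).Opens :=
  ProperFin.preCov (FSch.completionToX X 𝓘 0) V

lemma res_eq_rsOM {W W' : ((FSch.completionAlong X 𝓘).X 0).Opens} (e : W' ≤ W)
    (x : OM hX (FSch.complMod 𝓘 F) W) :
    res (mAb 𝓘 hX F).obj e x = rsOM hX (FSch.complMod 𝓘 F) e x := rfl

variable {F} {J : Ideal A} (β : Formal.completion J F ≅ tower 𝓘 (FSch.complMod 𝓘 F))
  {ι : Type u} (V : ι → X.Opens)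

/-- A cochain on the completion at a level. -/
def levC (q k : ℕ) : CC (upCov 𝓘 V) (mAb 𝓘 hX F).obj q →+ CC V (lvAb J F k).obj q :=
  AddMonoidHom.mk' (fun z i => ξ 𝓘 hX β (inter V i) k
      (res (mAb 𝓘 hX F).obj (ProperFin.inter_preCov (FSch.completionToX X 𝓘 0) V i).le (z i)))
    fun z w => funext fun i =>
      (congrArg (ξ 𝓘 hX β (inter V i) k) (map_add (res (mAb 𝓘 hX F).obj _) (z i) (w i))).trans
        (map_add (ξ 𝓘 hX β (inter V i) k) _ _)

lemma levC_cdiff (q k : ℕ) (z : CC (upCov 𝓘 V) (mAb 𝓘 hX F).obj q) :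
    levC 𝓘 hX β V (q + 1) k (cdiff (upCov 𝓘 V) (mAb 𝓘 hX F).obj q z) =
      cdiff V (lvAb J F k).obj q (levC 𝓘 hX β V q k z) := by
  funext i
  show ξ 𝓘 hX β (inter V i) k (res (mAb 𝓘 hX F).obj _ (cdiff (upCov 𝓘 V) (mAb 𝓘 hX F).obj q z i)) = _
  rw [cdiff_apply, cdiff_apply, map_sum]
  refine (map_sum (ξ 𝓘 hX β (inter V i) k) _ _).trans (Finset.sum_congr rfl fun j _ => ?_)
  refine (congrArg (ξ 𝓘 hX β (inter V i) k) (map_zsmul (res (mAb 𝓘 hX F).obj _) _ _)).trans ?_
  refine (map_zsmul (ξ 𝓘 hX β (inter V i) k) _ _).trans (congrArg (fun w => (-1 : ℤ) ^ (j : ℕ) • w) ?_)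
  refine Eq.trans ?_ (ξ_res 𝓘 hX β (inter_comp_le V i j.succAbove) k _).symm
  refine congrArg (ξ 𝓘 hX β (inter V i) k) ?_
  refine Eq.trans ?_ (res_eq_rsOM 𝓘 hX F _ _)
  exact (res_res _ _ _ _).trans (res_res _ _ _ _).symm

lemma levC_injective (q : ℕ) (z : CC (upCov 𝓘 V) (mAb 𝓘 hX F).obj q) (h : ∀ k, levC 𝓘 hX β V q k z = 0) :
    z = 0 := by
  funext i
  have h1 : res (mAb 𝓘 hX F).obj (ProperFin.inter_preCov (FSch.completionToX X 𝓘 0) V i).le (z i) =
      (0 : OM hX (FSch.complMod 𝓘 F) (preO 𝓘 (inter V i))) :=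
    ξ_ext 𝓘 hX β fun k => (congrFun (h k) i).trans (map_zero (ξ 𝓘 hX β (inter V i) k)).symm
  refine Eq.trans ?_ (map_zero (res (mAb 𝓘 hX F).obj (ProperFin.inter_preCov (FSch.completionToX X 𝓘 0) V i).ge))
  refine Eq.trans ?_ (congrArg (res (mAb 𝓘 hX F).obj (ProperFin.inter_preCov (FSch.completionToX X 𝓘 0) V i).ge) h1)
  exact ((res_res _ _ _ _).trans (res_self _ _ _)).symm

variable (h𝓘 : 𝓘 = (FSch.idealSpec A J).comap (X ↘ Spec (CommRingCat.of A)))
  (haff : ∀ (m : ℕ) (i : Fin (m + 1) → ι), IsAffineOpen (inter V i)) (hF : Coh.IsQCoh F)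

include h𝓘 haff hF

lemma trC_levC (q : ℕ) {n k : ℕ} (h : n ≤ k) (z : CC (upCov 𝓘 V) (mAb 𝓘 hX F).obj q) :
    trC V J F q h (levC 𝓘 hX β V q k z) = levC 𝓘 hX β V q n z := by
  funext i
  show (FormalLib.cTrans J F n k h).app (inter V i) (ξ 𝓘 hX β (inter V i) k _) = ξ 𝓘 hX β (inter V i) n _
  induction k, h using Nat.le_induction with
  | base =>
    rw [FormalLib.cTrans_self]
    rfl
  | succ k hk ih =>
    rw [FormalLib.cTrans_succ J n k hk F]
    refine Eq.trans ?_ ih
    refine congrArg ((FormalLib.cTrans J F n k hk).app (inter V i)) ?_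
    exact trans_ξ 𝓘 hX h𝓘 β hF (haff q i) k _

lemma exists_levC_eq (q : ℕ) (b : ∀ k, CC V (lvAb J F k).obj q)
    (hb : ∀ k, trC V J F q (Nat.le_succ k) (b (k + 1)) = b k) :
    ∃ z, ∀ k, levC 𝓘 hX β V q k z = b k := by
  have e : ∀ k, FormalLib.cTrans J F k (k + 1) (Nat.le_succ k) = Formal.modPowTrans J (k + 1) F := fun k =>
    Functor.ofOpSequence_map_homOfLE_succ _ k
  choose x hx using fun i : Fin (q + 1) → ι => exists_ξ_eq 𝓘 hX h𝓘 β hF (haff q i) (fun k => b k i)
    fun k => (congr($((e k).symm).app (inter V i) (b (k + 1) i))).trans (congrFun (hb k) i)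
  refine ⟨fun i => res (mAb 𝓘 hX F).obj (ProperFin.inter_preCov (FSch.completionToX X 𝓘 0) V i).ge (x i),
    fun k => funext fun i => ?_⟩
  refine Eq.trans ?_ (hx i k)
  exact congrArg (ξ 𝓘 hX β (inter V i) k) ((res_res _ _ _ _).trans (res_self _ _ _))

end Formal

end Groth.Agent.FExist
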