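import Groth.Agent.FExistLib.Bridge
import Groth.Agent.FormalSysLib.Right
import Groth.Agent.IdealStalkLib.Comap
import Groth.Agent.S3873
import Groth.Agent.FormalSysLib.ClosedSub

/-!
# The completion of a module as a tower
-/

set_option autoImplicit false
set_option linter.style.haveILetI false
set_option linter.unusedVariables false
set_option backward.isDefEq.respectTransparency false
set_option backward.isDefEq.respectTransparency.types false
set_option maxHeartbeats 1000000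

universe u

open CategoryTheory CategoryTheory.Limits AlgebraicGeometry Opposite

noncomputable section

namespace Groth.Agent.FExist

open Groth.Agent.FormalSys Groth.Agent.QCohLib Groth.Agent.ProjCoh

variable {A : Type u} [CommRing A] {J : Ideal A} {X : Scheme.{u}} [X.Over (Spec (CommRingCat.of A))]
  {𝓘 : X.IdealSheafData}

theorem ideal_eq (h𝓘 : 𝓘 = (FSch.idealSpec A J).comap (X ↘ Spec (CommRingCat.of A))) (U : X.affineOpens) :
    𝓘.ideal U = JU J U.1 := by
  subst h𝓘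
  refine (IdealStalkLib.comap_ideal _ _ (isAffineOpen_top _) U.2 le_top).trans ?_
  rw [S3873.idealSpec_top, Ideal.map_map]
  exact congrArg (fun ψ : A →+* Γ(X, U.1) => J.map ψ) (RingHom.ext fun a => appLE_top_eq_φV U.1 a)

variable [AlgebraicGeometry.IsNoetherian X] (h𝓘 : 𝓘 = (FSch.idealSpec A J).comap (X ↘ Spec (CommRingCat.of A)))

include h𝓘

/-- Adjuncts of isomorphisms onto levels are quotient maps. -/
theorem app_homEquiv_iso (n : ℕ) {M : X.Modules} (hM : Coh.IsQCoh M)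
    {N : ((FSch.completionAlong X 𝓘).X n).Modules}
    (c : (Scheme.Modules.pullback (FSch.completionToX X 𝓘 n)).obj M ≅ N) (U : X.Opens) (hU : IsAffineOpen U) :
    Function.Surjective (((adjL 𝓘 n).homEquiv M N c.hom).app U) ∧
      LinearMap.ker (appLinear ((adjL 𝓘 n).homEquiv M N c.hom) U) = JU (J ^ (n + 1)) U • ⊤ := by
  obtain ⟨hs, hk⟩ := app_iqπ (𝓘 ^ (n + 1)) hM hU
  have hI : (𝓘 ^ (n + 1)).ideal ⟨U, hU⟩ = JU (J ^ (n + 1)) U := by
    rw [Scheme.IdealSheafData.ideal_pow, Pi.pow_apply, ideal_eq h𝓘, JU_pow]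
  let R := Scheme.Modules.pushforward (FSch.completionToX X 𝓘 n)
  let ρ := R.mapIso c
  have e : ∀ s : Γ(M, U), ((adjL 𝓘 n).homEquiv M N c.hom).app U s = ρ.hom.app U ((iqπ (𝓘 ^ (n + 1)) M).app U s) :=
    fun s => congr(($((adjL 𝓘 n).homEquiv_unit _ _ c.hom)).app U s)
  have hinv : ∀ w, ρ.inv.app U (ρ.hom.app U w) = w := fun w => congr($(ρ.hom_inv_id).app U w)
  refine ⟨fun t => ?_, ?_⟩
  · obtain ⟨s, hs'⟩ := hs (ρ.inv.app U t)
    exact ⟨s, (e s).trans ((congrArg _ hs').trans congr($(ρ.inv_hom_id).app U t))⟩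
  · rw [← hI, ← hk]
    ext s
    show ((adjL 𝓘 n).homEquiv M N c.hom).app U s = 0 ↔ (iqπ (𝓘 ^ (n + 1)) M).app U s = 0
    rw [e]
    exact ⟨fun hz => (hinv _).symm.trans ((congrArg _ hz).trans (map_zero _)),
      fun hz => (congrArg _ hz).trans (map_zero _)⟩

/-- The completion of a coherent module is the tower of its completed system. -/
theorem exists_completion_iso_tower {F : X.Modules} (hF : Coh.IsCoh F) :
    ∃ β : Formal.completion J F ≅ tower 𝓘 (FSch.complMod 𝓘 F),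
      ∀ n : ℕ, Formal.modPowπ J (n + 1) F ≫ β.hom.app (op n) = towerπ 𝓘 F n := by
  refine exists_iso_completion (F := tower 𝓘 (FSch.complMod 𝓘 F)) hF (towerπ 𝓘 F) (fun {n n'} h => ?_) fun n U hU => ?_
  · induction h with
    | refl =>
      rw [show tr (tower 𝓘 (FSch.complMod 𝓘 F)) (le_refl n) = 𝟙 _ from (tower 𝓘 (FSch.complMod 𝓘 F)).map_id (op n)]
      exact Category.comp_id _
    | @step k hk ih =>
      rw [← tr_comp (tower 𝓘 (FSch.complMod 𝓘 F)) hk (Nat.le_succ k), ← Category.assoc]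
      refine Eq.trans ?_ ih
      refine congrArg (· ≫ _) ?_
      exact (congrArg (_ ≫ ·) (tower_map 𝓘 _ k)).trans (towerπ_tN F k)
  · exact app_homEquiv_iso h𝓘 n hF.1 (lvθ 𝓘 F n) U hU

/-- The tower of a coherent system is a coherent formal module. -/
theorem isCohFormal_tower (𝔐 : FSch.ModSys (FSch.completionAlong X 𝓘)) (h𝔐 : 𝔐.IsCoh) :
    Formal.IsCohFormal J (tower 𝓘 𝔐) := by
  have hcoh : ∀ n, Coh.IsCoh (obP 𝓘 𝔐 n) := fun n => by
    haveI : IsLocallyNoetherian ((FSch.completionAlong X 𝓘).X n) :=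
      LocallyOfFiniteType.isLocallyNoetherian (FSch.completionToX X 𝓘 n)
    exact DevLib.isCoh_pushforward_closed (FSch.completionToX X 𝓘 n) (h𝔐 n)
  refine ⟨hcoh, fun n => ?_, fun n => ?_⟩
  · refine (killedBy_iff _ _).2 fun U hU a ha s => ?_
    let c : (Scheme.Modules.pullback (FSch.completionToX X 𝓘 n)).obj (obP 𝓘 𝔐 n) ≅ 𝔐.F n :=
      asIso ((adjL 𝓘 n).counit.app (𝔐.F n))
    obtain ⟨hs, hk⟩ := app_homEquiv_iso h𝓘 n (hcoh n).1 c U hU
    have hid : (adjL 𝓘 n).homEquiv (obP 𝓘 𝔐 n) (𝔐.F n) c.hom = 𝟙 _ :=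
      ((adjL 𝓘 n).homEquiv_unit _ _ c.hom).trans ((adjL 𝓘 n).right_triangle_components _)
    rw [hid] at hk
    have h1 : φV (FormalLib.cst A X) U a • s ∈ LinearMap.ker (appLinear (𝟙 (obP 𝓘 𝔐 n)) U) := by
      rw [hk]
      exact Submodule.smul_mem_smul (Ideal.mem_map_of_mem _ ha) trivial
    exact h1
  · let K := Scheme.Modules.pullback ((FSch.completionAlong X 𝓘).ι n)
    let c : (Scheme.Modules.pullback (FSch.completionToX X 𝓘 n)).obj (obP 𝓘 𝔐 (n + 1)) ≅ 𝔐.F n :=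
      absIso (adjL 𝓘 (n + 1)) K (FSch.complTransIso 𝓘 n) (𝔐.e n)
    have e : (tower 𝓘 𝔐).map (homOfLE (Nat.le_succ n)).op = (adjL 𝓘 n).homEquiv _ _ c.hom :=
      (tower_map 𝓘 𝔐 n).trans (absT_eq (adjL 𝓘 n) (adjL 𝓘 (n + 1)) K (FSch.complTransIso 𝓘 n) (𝔐.e n))
    rw [e]
    exact exists_isIso_desc (J := J ^ (n + 1)) (hcoh (n + 1)).1 _ fun U hU =>
      app_homEquiv_iso h𝓘 n (hcoh (n + 1)).1 c U hU

end Groth.Agent.FExist
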