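import Groth.Agent.FExistLib.Compl
import Groth.Agent.FComplLib.Factor
import Groth.Agent.FComplLib.Realize
import Groth.Agent.FComplLib.Completion
import Groth.Agent.CompFlatLib.Scheme
import Groth.Agent.S13334
import Groth.Agent.S13337
import Groth.Agent.S0798
import Groth.Agent.S0799
import Groth.Agent.S0796
import Groth.Agent.S9514

/-!
# Algebraizable modules on completions
-/

set_option autoImplicit false
set_option linter.style.haveILetI false
set_option linter.unusedVariables false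
set_option backward.isDefEq.respectTransparency false
set_option backward.isDefEq.respectTransparency.types false
set_option maxHeartbeats 1000000

universe u

open CategoryTheory CategoryTheory.Limits AlgebraicGeometry Opposite

noncomputable section

namespace Groth.Agent.FExist

variable {A : Type u} [CommRing A] [IsNoetherianRing A] {J : Ideal A} [IsAdicComplete J A] {X : Scheme.{u}}
  [X.Over (Spec (CommRingCat.of A))] [IsSeparated (X ↘ Spec (CommRingCat.of A))]
  [LocallyOfFiniteType (X ↘ Spec (CommRingCat.of A))] [QuasiCompact (X ↘ Spec (CommRingCat.of A))]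
  [AlgebraicGeometry.IsNoetherian X] {𝓘 : X.IdealSheafData}
  (h𝓘 : 𝓘 = (FSch.idealSpec A J).comap (X ↘ Spec (CommRingCat.of A)))
  (hX : (FSch.completionAlong X 𝓘).IsFormal)

variable (A) in
/-- Coherent with proper support. -/
def CohPS (G : X.Modules) : Prop :=
  Coh.IsCoh G ∧ ClSub.IsProperOver (X ↘ Spec (CommRingCat.of A)) (CohB1.support G)

omit [IsNoetherianRing A] [IsSeparated (X ↘ Spec (CommRingCat.of A))] [AlgebraicGeometry.IsNoetherian X]
  [LocallyOfFiniteType (X ↘ Spec (CommRingCat.of A))] [QuasiCompact (X ↘ Spec (CommRingCat.of A))] in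
theorem isCoh_complMod [IsLocallyNoetherian X] {F : X.Modules} (hF : Coh.IsCoh F) : (FSch.complMod 𝓘 F).IsCoh :=
  fun k => PullbackMod.isCoh_pullback (FSch.completionToX X 𝓘 k) F hF

theorem cohPS_kernel_cokernel {F G : X.Modules} (hF : CohPS A F) (hG : CohPS A G) (φ : F ⟶ G) :
    CohPS A (kernel φ) ∧ CohPS A (cokernel φ) := by
  obtain ⟨hk, hc⟩ := S9514.result X hF.1 hG.1 φ
  exact ⟨⟨hk, ClSubLib.isProperOver_subset _ hF.2 (PullbackMod.isClosed_support_of_isFT hk.2)
      (FormalSys.support_subset_of_mono (kernel.ι φ))⟩,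
    ⟨hc, ClSubLib.isProperOver_subset _ hG.2 (PullbackMod.isClosed_support_of_isFT hc.2)
      (FormalSys.support_subset_of_epi (cokernel.π φ))⟩⟩

include h𝓘

/-- Completion is fully faithful on coherent modules with proper supports. -/
theorem complModMap_bijective {F G : X.Modules} (hF : CohPS A F) (hG : CohPS A G) :
    Function.Bijective (fun φ : F ⟶ G => FSch.complModMap 𝓘 φ) := by
  obtain ⟨βF, hβF⟩ := exists_completion_iso_tower h𝓘 hF.1
  obtain ⟨βG, hβG⟩ := exists_completion_iso_tower h𝓘 hG.1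
  let τ : (φ : FSch.complMod 𝓘 F ⟶ FSch.complMod 𝓘 G) → (Formal.completion J F ⟶ Formal.completion J G) :=
    fun ψ => βF.hom ≫ towerMap ψ ≫ βG.inv
  have hτ : ∀ (φ : F ⟶ G) (n : ℕ), Formal.modPowπ J (n + 1) F ≫ (τ (FSch.complModMap 𝓘 φ)).app (op n) =
      φ ≫ Formal.modPowπ J (n + 1) G := fun φ n => by
    simp only [τ, NatTrans.comp_app]
    rw [← Category.assoc, hβF, ← Category.assoc, towerπ_map, Category.assoc]
    refine congrArg (φ ≫ ·) ?_
    rw [← hβG, Category.assoc]
    exact (congrArg (_ ≫ ·) (βG.hom_inv_id_app (op n))).trans (Category.comp_id _)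
  refine ⟨fun φ φ' he => ?_, fun ψ => ?_⟩
  · have he' : FSch.complModMap 𝓘 φ = FSch.complModMap 𝓘 φ' := he
    exact (S0798.result A J X F G hF.1 hG.1 hF.2 hG.2 (τ (FSch.complModMap 𝓘 φ))).unique (hτ φ)
      fun n => he' ▸ hτ φ' n
  · obtain ⟨φ, hφ, -⟩ := S0798.result A J X F G hF.1 hG.1 hF.2 hG.2 (τ ψ)
    refine ⟨φ, towerMap_injective ?_⟩
    have e : τ (FSch.complModMap 𝓘 φ) = τ ψ := by
      ext k : 2
      obtain ⟨n, rfl⟩ : ∃ n, k = op n := ⟨k.unop, rfl⟩
      haveI : Epi (Formal.modPowπ J (n + 1) F) := by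
        unfold Formal.modPowπ; exact coequalizer.π_epi
      exact (cancel_epi (Formal.modPowπ J (n + 1) F)).1 ((hτ φ n).trans (hφ n).symm)
    exact (cancel_mono βG.inv).1 ((cancel_epi βF.hom).1 e)

theorem realModMap_complModMap_bijective {F G : X.Modules} (hF : CohPS A F) (hG : CohPS A G) :
    Function.Bijective (fun φ : F ⟶ G => FSch.ModSys.realModMap hX (FSch.complModMap 𝓘 φ)) :=
  (S13337.result _ (S3854.result X 𝓘) _ _ (isCoh_complMod hF.1) (isCoh_complMod hG.1)).comp
    (complModMap_bijective h𝓘 hF hG)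

/-- Completion is fully faithful on coherent modules with proper supports, as inverse image. -/
theorem pull_map_bijective {F G : X.Modules} (hF : CohPS A F) (hG : CohPS A G) :
    Function.Bijective (fun φ : F ⟶ G =>
      (FSch.toSchemeMor (FSch.completionAlong X 𝓘) hX (FSch.completionToX X 𝓘) (FSch.completionToX_comm X 𝓘)).pull.map φ) := by
  let L := (FSch.toSchemeMor (FSch.completionAlong X 𝓘) hX (FSch.completionToX X 𝓘) (FSch.completionToX_comm X 𝓘)).pull
  haveI := FCompl.complCmp_isIso X 𝓘 hX F hF.1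
  haveI := FCompl.complCmp_isIso X 𝓘 hX G hG.1
  let a := asIso (FCompl.complCmp X 𝓘 hX F)
  let b := asIso (FCompl.complCmp X 𝓘 hX G)
  have e : (fun φ : F ⟶ G => L.map φ) =
      (fun z => a.hom ≫ z ≫ b.inv) ∘ fun φ => FSch.ModSys.realModMap hX (FSch.complModMap 𝓘 φ) := by
    funext φ
    show L.map φ = a.hom ≫ _ ≫ b.inv
    rw [← Category.assoc, Iso.eq_comp_inv]
    exact FCompl.complCmp_natural X 𝓘 hX φ
  rw [show (fun φ : F ⟶ G => _) = _ from e]
  exact Function.Bijective.comp ⟨fun x y hxy => (cancel_mono b.inv).1 ((cancel_epi a.hom).1 hxy),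
    fun z => ⟨a.inv ≫ z ≫ b.hom, by simp⟩⟩ (realModMap_complModMap_bijective h𝓘 hX hF hG)

omit h𝓘 in
/-- Isomorphic towers come from isomorphic systems. -/
theorem nonempty_iso_of_tower {𝔐 𝔑 : FSch.ModSys (FSch.completionAlong X 𝓘)} (e : tower 𝓘 𝔐 ≅ tower 𝓘 𝔑) :
    Nonempty (𝔐 ≅ 𝔑) := by
  obtain ⟨f, hf⟩ := towerMap_surjective e.hom
  obtain ⟨g, hg⟩ := towerMap_surjective e.inv
  have hcomp : ∀ {P Q R : FSch.ModSys (FSch.completionAlong X 𝓘)} (a : P ⟶ Q) (b : Q ⟶ R),
      towerMap (a ≫ b) = towerMap a ≫ towerMap b := fun a b => by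
    ext k : 2
    exact (Scheme.Modules.pushforward (FSch.completionToX X 𝓘 k.unop)).map_comp (a.app k.unop) (b.app k.unop)
  have hid : ∀ P : FSch.ModSys (FSch.completionAlong X 𝓘), towerMap (𝟙 P) = 𝟙 (tower 𝓘 P) := fun P => by
    ext k : 2
    exact (Scheme.Modules.pushforward (FSch.completionToX X 𝓘 k.unop)).map_id (P.F k.unop)
  exact ⟨⟨f, g, towerMap_injective (by rw [hcomp, hf, hg, e.hom_inv_id, hid]),
    towerMap_injective (by rw [hcomp, hf, hg, e.inv_hom_id, hid])⟩⟩

omit h𝓘 in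
theorem nonempty_realMod_iso {𝔐 𝔑 : FSch.ModSys (FSch.completionAlong X 𝓘)} (e : 𝔐 ≅ 𝔑) :
    Nonempty (𝔐.realMod hX ≅ 𝔑.realMod hX) := by
  haveI : ∀ k, IsIso (e.hom.app k) := fun k =>
    ⟨e.inv.app k, congrArg (fun t => t.app k) e.hom_inv_id, congrArg (fun t => t.app k) e.inv_hom_id⟩
  haveI := FCompl.isIso_realModMap (h := hX) e.hom
  exact ⟨asIso (FSch.ModSys.realModMap hX e.hom)⟩

/-- Coherent systems with proper support are completions. -/
theorem exists_algebraization (𝔐 : FSch.ModSys (FSch.completionAlong X 𝓘)) (h𝔐 : 𝔐.IsCoh)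
    (hs : ClSub.IsProperOver (X ↘ Spec (CommRingCat.of A)) (CohB1.support (obP 𝓘 𝔐 0))) :
    ∃ G : X.Modules, CohPS A G ∧ Nonempty (𝔐.realMod hX ≅ (FSch.complMod 𝓘 G).realMod hX) := by
  obtain ⟨M, hM, hMs, ⟨e⟩⟩ := S0799.result A J X (tower 𝓘 𝔐) (isCohFormal_tower h𝓘 𝔐 h𝔐) hs
  obtain ⟨β, -⟩ := exists_completion_iso_tower h𝓘 hM
  obtain ⟨i⟩ := nonempty_iso_of_tower (e.symm ≪≫ β)
  exact ⟨M, ⟨hM, hMs⟩, nonempty_realMod_iso hX i⟩

end Groth.Agent.FExist
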