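import Groth.Agent.FExistLib.CechFF
import Groth.Agent.S3854

/-!
# Cohomology of a completion of a coherent sheaf on a proper scheme
-/

set_option autoImplicit false
set_option linter.style.haveILetI false
set_option linter.unusedVariables false
set_option linter.unusedSectionVars false
set_option backward.isDefEq.respectTransparency false
set_option backward.isDefEq.respectTransparency.types false
set_option maxHeartbeats 1000000

universe u

open CategoryTheory CategoryTheory.Limits AlgebraicGeometry TopologicalSpace Opposite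
open Groth.Agent.CohBase

noncomputable section

namespace Groth.Agent.FExist

open Groth.Agent.FormalSys Groth.Agent.FCompl

variable {A : Type u} [CommRing A] [IsNoetherianRing A] {X : Scheme.{u}} [X.Over (Spec (CommRingCat.of A))]
  [IsProper (X ↘ Spec (CommRingCat.of A))] [AlgebraicGeometry.IsNoetherian X]

lemma acyclic_mAb (𝓘 : X.IdealSheafData) (hX : (FSch.completionAlong X 𝓘).IsFormal) {F : X.Modules}
    (hF : Coh.IsCoh F) {ι : Type u} (V : ι → X.Opens)
    (haff : ∀ (m : ℕ) (i : Fin (m + 1) → ι), IsAffineOpen (inter V i)) :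
    Acyclic (upCov 𝓘 V) (mAb 𝓘 hX F) := by
  intro n i m
  have hL := S3854.result X 𝓘
  have hcoh : (FSch.complMod 𝓘 F).IsCoh := fun k => PullbackMod.isCoh_pullback (FSch.completionToX X 𝓘 k) F hF
  have hA : FSch.IsCohF (FSch.completionAlong X 𝓘) hX ((FSch.complMod 𝓘 F).realMod hX) :=
    S13334.result (FSch.completionAlong X 𝓘) hL (FSch.complMod 𝓘 F) hcoh
  have haW : IsAffineOpen (inter (upCov 𝓘 V) i) := by
    show IsAffineOpen (inter (ProperFin.preCov (FSch.completionToX X 𝓘 0) V) i)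
    rw [← ProperFin.inter_preCov]
    exact (haff n i).preimage _
  exact subsingleton_HU_of_affQC hL (affQC_of_coh hL hA) haW m

theorem nonempty_addEquiv_hF_realMod (J : Ideal A) (𝓘 : X.IdealSheafData)
    (h𝓘 : 𝓘 = (FSch.idealSpec A J).comap (X ↘ Spec (CommRingCat.of A)))
    (hX : (FSch.completionAlong X 𝓘).IsFormal) {F : X.Modules} (hF : Coh.IsCoh F) (q : ℕ) :
    Nonempty (FSch.HF (FSch.completionAlong X 𝓘) hX ((FSch.complMod 𝓘 F).realMod hX) q ≃+ Formal.HHlim J F q) := by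
  obtain ⟨β, -⟩ := exists_completion_iso_tower (J := J) h𝓘 hF
  obtain ⟨ι, hι, V, hcov, haff⟩ := FormalLib.exists_affine_cover (FormalLib.str A X)
  haveI := hι
  have hcovU : (⊤ : ((FSch.completionAlong X 𝓘).X 0).Opens) ≤ iSup (upCov 𝓘 V) := fun x _ => by
    obtain ⟨a, ha⟩ := Opens.mem_iSup.1 (hcov (show FSch.completionToX X 𝓘 0 x ∈ (⊤ : X.Opens) from trivial))
    exact Opens.mem_iSup.2 ⟨a, ha⟩
  have hacU := acyclic_mAb 𝓘 hX hF V haff
  have hac : ∀ k, Acyclic V (lvAb J F k) := fun k => by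
    haveI := FormalLib.isQCoh_modPow J (k + 1) F hF.1
    exact CohBase.acyclic_of_affine (Formal.modPow J (k + 1) F) V haff
  have hQ := hF.1
  have htH : ∀ (m : ℕ) (k : ℕ) (z : (cdiff V (lvAb J F (k + 1)).obj m).ker) (w : (cdiff V (lvAb J F k).obj m).ker),
      trC V J F m (Nat.le_succ k) z.1 = w.1 →
        Formal.HHmodPowTrans J F m k (clH V hcov (hac (k + 1)) m z) = clH V hcov (hac k) m w := by
    intro m k z w h
    have e : FormalLib.cTrans J F k (k + 1) (Nat.le_succ k) = Formal.modPowTrans J (k + 1) F :=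
      Functor.ofOpSequence_map_homOfLE_succ _ k
    show Sheaf.H.map ((SheafOfModules.toSheaf _).map (Formal.modPowTrans J (k + 1) F)) m _ = _
    rw [← e]
    exact clH_natural V hcov (hac _) (hac k) _ m z w h.symm
  cases q with
  | zero =>
    exact nonempty_addEquiv_lim
      (P := fun _ => PUnit.{u + 1}) (C := fun k => CC V (lvAb J F k).obj 0) (D := fun k => CC V (lvAb J F k).obj 1)
      (H := fun k => Formal.HHmodPow J F 0 k)
      (P' := PUnit.{u + 1}) (C' := CC (upCov 𝓘 V) (mAb 𝓘 hX F).obj 0) (D' := CC (upCov 𝓘 V) (mAb 𝓘 hX F).obj 1)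
      (fun _ => 0) (fun k => cdiff V (lvAb J F k).obj 0) 0 (cdiff (upCov 𝓘 V) (mAb 𝓘 hX F).obj 0)
      (fun _ => 0) (fun h => trC V J F 0 h) (fun h => trC V J F 1 h) (fun k => Formal.HHmodPowTrans J F 0 k)
      (fun _ _ _ => rfl) (fun h x => (map_zero _).symm) (fun h x => cdiff_trC V J F 0 h x)
      (fun _ x => ⟨x, rfl⟩) (fun k => trC_surjective V haff J hQ 0 (Nat.le_succ k)) (fun _ => 0) (fun k => levC 𝓘 hX β V 0 k) (fun k => levC 𝓘 hX β V 1 k)
      (fun k x => map_zero _) (fun k x => levC_cdiff 𝓘 hX β V 0 k x)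
      (fun b _ => ⟨PUnit.unit, fun _ => rfl⟩) (fun b hb => exists_levC_eq 𝓘 hX β V h𝓘 haff hQ 0 b hb)
      (fun h x => trC_levC 𝓘 hX β V h𝓘 haff hQ 0 h x) (fun k x => map_zero _)
      (fun x hx => levC_injective 𝓘 hX β V 0 x hx) (fun x hx => levC_injective 𝓘 hX β V 1 x hx)
      (fun k => clH V hcov (hac k) 0) (fun k => clH_surjective V hcov (hac k) 0)
      (fun k z => (clH_eq_zero_iff V hcov (hac k) 0 z).trans
        ⟨fun h => ⟨PUnit.unit, (AddSubgroup.mem_bot.1 h).symm⟩, fun ⟨_, h⟩ => AddSubgroup.mem_bot.2 h.symm⟩)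
      (htH 0) 0 (fun n δ _ => ⟨PUnit.unit, rfl, rfl⟩)
      (clH (upCov 𝓘 V) hcovU hacU 0) (clH_surjective (upCov 𝓘 V) hcovU hacU 0)
      (fun z => (clH_eq_zero_iff (upCov 𝓘 V) hcovU hacU 0 z).trans
        ⟨fun h => ⟨PUnit.unit, (AddSubgroup.mem_bot.1 h).symm⟩, fun ⟨_, h⟩ => AddSubgroup.mem_bot.2 h.symm⟩)
      (Formal.HHlim J F 0) (fun x => Iff.rfl)
  | succ r =>
    obtain ⟨c, hc⟩ := exists_stab V hcov haff J hF r
    exact nonempty_addEquiv_lim
      (P := fun k => CC V (lvAb J F k).obj r) (C := fun k => CC V (lvAb J F k).obj (r + 1))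
      (D := fun k => CC V (lvAb J F k).obj (r + 2)) (H := fun k => Formal.HHmodPow J F (r + 1) k)
      (P' := CC (upCov 𝓘 V) (mAb 𝓘 hX F).obj r) (C' := CC (upCov 𝓘 V) (mAb 𝓘 hX F).obj (r + 1))
      (D' := CC (upCov 𝓘 V) (mAb 𝓘 hX F).obj (r + 2))
      (fun k => cdiff V (lvAb J F k).obj r) (fun k => cdiff V (lvAb J F k).obj (r + 1))
      (cdiff (upCov 𝓘 V) (mAb 𝓘 hX F).obj r) (cdiff (upCov 𝓘 V) (mAb 𝓘 hX F).obj (r + 1))
      (fun h => trC V J F r h) (fun h => trC V J F (r + 1) h) (fun h => trC V J F (r + 2) h)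
      (fun k => Formal.HHmodPowTrans J F (r + 1) k)
      (fun h h' x => trC_trC V J F r h h' x) (fun h x => cdiff_trC V J F r h x)
      (fun h x => cdiff_trC V J F (r + 1) h x) (fun k => trC_surjective V haff J hQ r (Nat.le_succ k))
      (fun k => trC_surjective V haff J hQ (r + 1) (Nat.le_succ k))
      (fun k => levC 𝓘 hX β V r k) (fun k => levC 𝓘 hX β V (r + 1) k) (fun k => levC 𝓘 hX β V (r + 2) k)
      (fun k x => levC_cdiff 𝓘 hX β V r k x) (fun k x => levC_cdiff 𝓘 hX β V (r + 1) k x)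
      (fun b hb => exists_levC_eq 𝓘 hX β V h𝓘 haff hQ r b hb)
      (fun b hb => exists_levC_eq 𝓘 hX β V h𝓘 haff hQ (r + 1) b hb)
      (fun h x => trC_levC 𝓘 hX β V h𝓘 haff hQ (r + 1) h x) (fun k x => cdiff_cdiff _ _ _)
      (fun x hx => levC_injective 𝓘 hX β V (r + 1) x hx) (fun x hx => levC_injective 𝓘 hX β V (r + 2) x hx)
      (fun k => clH V hcov (hac k) (r + 1)) (fun k => clH_surjective V hcov (hac k) (r + 1))
      (fun k z => clH_eq_zero_iff V hcov (hac k) (r + 1) z) (htH (r + 1)) c hc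
      (clH (upCov 𝓘 V) hcovU hacU (r + 1)) (clH_surjective (upCov 𝓘 V) hcovU hacU (r + 1))
      (fun z => clH_eq_zero_iff (upCov 𝓘 V) hcovU hacU (r + 1) z)
      (Formal.HHlim J F (r + 1)) (fun x => Iff.rfl)

/-- Isomorphic modules have isomorphic cohomology. -/
def hFEquiv {𝔛 : FSch.Sys.{u}} (h : 𝔛.IsFormal) {M N : FSch.ModF 𝔛 h} (e : M ≅ N) (q : ℕ) :
    FSch.HF 𝔛 h M q ≃+ FSch.HF 𝔛 h N q where
  toFun := Sheaf.H.map ((SheafOfModules.toSheaf (ModSite.ringSh (𝔛.Osh h))).map e.hom) q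
  invFun := Sheaf.H.map ((SheafOfModules.toSheaf (ModSite.ringSh (𝔛.Osh h))).map e.inv) q
  left_inv x := by
    rw [← Sheaf.H.map_comp_apply, ← Functor.map_comp, e.hom_inv_id, CategoryTheory.Functor.map_id,
      Sheaf.H.map_id_apply]
  right_inv x := by
    rw [← Sheaf.H.map_comp_apply, ← Functor.map_comp, e.inv_hom_id, CategoryTheory.Functor.map_id,
      Sheaf.H.map_id_apply]
  map_add' x y := map_add _ x y

/-- Cohomology of the completion as a limit. -/
theorem nonempty_addEquiv_hF_completion (J : Ideal A) (𝓘 : X.IdealSheafData)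
    (h𝓘 : 𝓘 = (FSch.idealSpec A J).comap (X ↘ Spec (CommRingCat.of A)))
    (hX : (FSch.completionAlong X 𝓘).IsFormal) (F : X.Modules) (hF : Coh.IsCoh F) (q : ℕ) :
    Nonempty (FSch.HF (FSch.completionAlong X 𝓘) hX ((FSch.toSchemeMor (FSch.completionAlong X 𝓘) hX
      (FSch.completionToX X 𝓘) (FSch.completionToX_comm X 𝓘)).pull.obj F) q ≃+ Formal.HHlim J F q) := by
  obtain ⟨E⟩ := nonempty_addEquiv_hF_realMod J 𝓘 h𝓘 hX hF q
  haveI := complCmp_isIso X 𝓘 hX F hF
  exact ⟨(hFEquiv hX (asIso (complCmp X 𝓘 hX F)) q).trans E⟩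

end Groth.Agent.FExist
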