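import Groth.Agent.FExistLib.BcMain
import Groth.Agent.ClSubLib.ProperOver
import Groth.Agent.FormalSysLib.Extend
import Groth.Agent.PullbackMod.SuppClosed

/-!
# Direct images of algebraizable modules
-/

set_option autoImplicit false
set_option linter.style.haveILetI false
set_option linter.unusedVariables false
set_option linter.unusedSectionVars false
set_option backward.isDefEq.respectTransparency false
set_option backward.isDefEq.respectTransparency.types false
set_option maxHeartbeats 1000000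

universe u

open CategoryTheory CategoryTheory.Limits AlgebraicGeometry TopologicalSpace Opposite

noncomputable section

namespace Groth.Agent.FExist

open Groth.Agent.FCompl

lemma support_push_subset {X Z : Scheme.{u}} (g : Z ⟶ X) (G : Z.Modules) {T : Set X} (hT : IsClosed T)
    (h : ∀ z ∈ CohB1.support G, g z ∈ T) : CohB1.support ((Scheme.Modules.pushforward g).obj G) ⊆ T := by
  intro y hy
  by_contra hyT
  let P := (Scheme.Modules.pushforward g).obj G
  apply hy
  refine subsingleton_of_forall_eq 0 fun s => ?_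
  obtain ⟨W, hW, σ, rfl⟩ := TopCat.Presheaf.exists_germ_eq P.presheaf s
  let O : X.Opens := ⟨Tᶜ, hT.isOpen_compl⟩
  have h0 : P.presheaf.map (homOfLE (inf_le_left : W ⊓ O ≤ W)).op σ = 0 :=
    FormalSys.eq_zero_of_disjoint_support (M := G) (U := g ⁻¹ᵁ (W ⊓ O)) (fun x hx hxs => hx.2 (h x hxs)) _
  refine ((P.presheaf.germ_res_apply (homOfLE (inf_le_left : W ⊓ O ≤ W)) y ⟨hW, hyT⟩ σ).symm.trans ?_)
  rw [h0, map_zero]

/-- Isomorphisms of completions of direct images. -/
theorem nonempty_pushF_iso {X Z : Scheme.{u}} [IsLocallyNoetherian X] [IsLocallyNoetherian Z] (g : Z ⟶ X) [IsProper g]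
    (𝓘 : X.IdealSheafData) (𝓚 : Z.IdealSheafData) (h𝓚 : 𝓚 = 𝓘.comap g) (hpc : FSch.PowCompat g 𝓚 𝓘)
    (hX : (FSch.completionAlong X 𝓘).IsFormal) (hZ : (FSch.completionAlong Z 𝓚).IsFormal) (G : Z.Modules)
    (hG : Coh.IsCoh G) :
    Nonempty ((FSch.pushF (FSch.completionMap g 𝓚 𝓘 hpc) hZ hX).obj ((FSch.complMod 𝓚 G).realMod hZ) ≅
      (FSch.complMod 𝓘 ((Scheme.Modules.pushforward g).obj G)).realMod hX) := by
  haveI := hG.1
  haveI := complCmp_isIso X 𝓘 hX _ (RpushLib.isCoh_push g hG)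
  haveI := complCmp_isIso Z 𝓚 hZ G hG
  haveI := isIso_schBcMap g 𝓘 𝓚 hpc hZ hX G h𝓚 hG
  exact ⟨(FSch.pushF (FSch.completionMap g 𝓚 𝓘 hpc) hZ hX).mapIso (asIso (complCmp Z 𝓚 hZ G)).symm ≪≫
    (asIso (FSch.schBcMap (FSch.completionMap g 𝓚 𝓘 hpc) hZ hX g (FSch.completionToX Z 𝓚)
      (FSch.completionToX_comm Z 𝓚) (FSch.completionToX X 𝓘) (FSch.completionToX_comm X 𝓘)
      (FSch.completionMap_sq g 𝓚 𝓘 hpc) G)).symm ≪≫ asIso (complCmp X 𝓘 hX ((Scheme.Modules.pushforward g).obj G))⟩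

end Groth.Agent.FExist
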