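import Groth.Agent.FExistLib.Algz
import Groth.Agent.FExistLib.AbsInd
import Groth.Agent.FComplLib.FinPres
import Groth.Agent.DevLib.Closed
import Groth.Agent.QCohGen.Main
import Groth.Agent.QCohLib.Exact
import Groth.Agent.S2128
import Groth.Agent.S0046
import Groth.Agent.S4812

/-!
# Completion of quasi-coherent modules on proper schemes
-/

set_option autoImplicit false
set_option linter.style.haveILetI false
set_option linter.unusedVariables false
set_option backward.isDefEq.respectTransparency false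
set_option backward.isDefEq.respectTransparency.types false
set_option maxHeartbeats 1000000

universe u

open CategoryTheory CategoryTheory.Limits AlgebraicGeometry Opposite

noncomputable section

namespace Groth.Agent.FExist

variable {A : Type u} [CommRing A] [IsNoetherianRing A] {J : Ideal A} [IsAdicComplete J A] {X : Scheme.{u}}
  [X.Over (Spec (CommRingCat.of A))] [IsProper (X ↘ Spec (CommRingCat.of A))]
  [AlgebraicGeometry.IsNoetherian X] {𝓘 : X.IdealSheafData}
  (h𝓘 : 𝓘 = (FSch.idealSpec A J).comap (X ↘ Spec (CommRingCat.of A)))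
  (hX : (FSch.completionAlong X 𝓘).IsFormal)

omit [IsNoetherianRing A] [AlgebraicGeometry.IsNoetherian X] in
theorem isProperOver_of_isClosed {Z : Set X} (hZ : IsClosed Z) :
    ClSub.IsProperOver (X ↘ Spec (CommRingCat.of A)) Z := ⟨hZ, inferInstance⟩

omit [IsNoetherianRing A] [AlgebraicGeometry.IsNoetherian X] in
theorem cohPS_of_isCoh {G : X.Modules} (hG : Coh.IsCoh G) : CohPS A G :=
  ⟨hG, isProperOver_of_isClosed (PullbackMod.isClosed_support_of_isFT hG.2)⟩

omit [IsNoetherianRing A] [IsProper (X ↘ Spec (CommRingCat.of A))] in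
theorem exists_coh_colim (G : X.Modules) (hG : Coh.IsQCoh G) :
    ∃ (I : Type u) (_ : SmallCategory I) (_ : IsFiltered I) (F : I ⥤ X.Modules) (c : Cocone F)
      (_ : IsColimit c), (∀ i, Coh.IsCoh (F.obj i)) ∧ c.pt = G := by
  obtain ⟨I, a, b, F, c, hc, hF, he⟩ := S2128.result X G hG
  exact ⟨I, a, b, F, c, hc, fun i => (QCohLib.isCoh_iff_isFP _).2 (hF i), he⟩

omit [IsProper (X ↘ Spec (CommRingCat.of A))] in
theorem isCohF_kapL {G : X.Modules} (hG : Coh.IsCoh G) :
    FSch.IsCohF (FSch.completionAlong X 𝓘) hX ((kapL (𝓘 := 𝓘) hX).obj G) := by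
  haveI := FCompl.complCmp_isIso X 𝓘 hX G hG
  exact (SheafOfModules.isFinitePresentation (ModSite.ringSh ((FSch.completionAlong X 𝓘).Osh hX))).prop_of_iso
    (asIso (FCompl.complCmp X 𝓘 hX G)).symm (S13334.result _ (S3854.result X 𝓘) _ (isCoh_complMod hG))

omit [IsNoetherianRing A] [IsProper (X ↘ Spec (CommRingCat.of A))] in
theorem compactSpace_completion_zero : CompactSpace ((FSch.completionAlong X 𝓘).X 0) :=
  QuasiCompact.compactSpace_of_compactSpace (FSch.completionToX X 𝓘 0)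

omit [IsNoetherianRing A] [IsProper (X ↘ Spec (CommRingCat.of A))] in
theorem isCoh_obP {𝔐 : FSch.ModSys (FSch.completionAlong X 𝓘)} (h𝔐 : 𝔐.IsCoh) (n : ℕ) :
    Coh.IsCoh (obP 𝓘 𝔐 n) := by
  haveI : IsLocallyNoetherian ((FSch.completionAlong X 𝓘).X n) :=
    LocallyOfFiniteType.isLocallyNoetherian (FSch.completionToX X 𝓘 n)
  exact DevLib.isCoh_pushforward_closed (FSch.completionToX X 𝓘 n) (h𝔐 n)

include h𝓘

theorem kapL_hinj {G H : X.Modules} (hG : Coh.IsCoh G) (hH : Coh.IsQCoh H) (φ : G ⟶ H)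
    (h : (kapL (𝓘 := 𝓘) hX).map φ = 0) : φ = 0 := by
  let L := kapL (𝓘 := 𝓘) hX
  haveI : PreservesFiniteLimits L := CompFlat.completion_flat X 𝓘 hX
  haveI : PreservesColimitsOfSize.{0, 0} L :=
    (FSch.toSchemeMor (FSch.completionAlong X 𝓘) hX (FSch.completionToX X 𝓘)
      (FSch.completionToX_comm X 𝓘)).adj.leftAdjoint_preservesColimits
  haveI : L.Additive := by
    haveI : PreservesBinaryBiproducts L := preservesBinaryBiproducts_of_preservesBinaryCoproducts L
    exact Functor.additive_of_preservesBinaryBiproducts L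
  have hk : Coh.IsCoh (kernel φ) := S0046.result X G _ (kernel.ι φ) hG (QCohLib.isQCoh_image φ hG.1 hH).1
  have hI : Coh.IsCoh (Abelian.coimage φ) := (S9514.result X hk hG (kernel.ι φ)).2
  have h2 : L.map (Abelian.coimage.π φ) ≫ L.map (Abelian.factorThruCoimage φ) = 0 := by
    rw [← L.map_comp, Abelian.coimage.fac]; exact h
  haveI : Mono (L.map (Abelian.factorThruCoimage φ)) := inferInstance
  have h3 : L.map (Abelian.coimage.π φ) = L.map 0 := by
    rw [L.map_zero]; exact zero_of_comp_mono _ h2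
  have h4 := (pull_map_bijective h𝓘 hX (cohPS_of_isCoh (A := A) hG) (cohPS_of_isCoh (A := A) hI)).1 h3
  rw [← Abelian.coimage.fac φ, h4, zero_comp]

theorem kapL_bijective {G H : X.Modules} (hG : Coh.IsQCoh G) (hH : Coh.IsQCoh H) :
    Function.Bijective (fun φ : G ⟶ H => (kapL (𝓘 := 𝓘) hX).map φ) := by
  let L := kapL (𝓘 := 𝓘) hX
  haveI : PreservesColimitsOfSize.{u, u} L :=
    (FSch.toSchemeMor (FSch.completionAlong X 𝓘) hX (FSch.completionToX X 𝓘)
      (FSch.completionToX_comm X 𝓘)).adj.leftAdjoint_preservesColimits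
  haveI : PreservesColimitsOfSize.{0, 0} L :=
    (FSch.toSchemeMor (FSch.completionAlong X 𝓘) hX (FSch.completionToX X 𝓘)
      (FSch.completionToX_comm X 𝓘)).adj.leftAdjoint_preservesColimits
  haveI : L.Additive := by
    haveI : PreservesBinaryBiproducts L := preservesBinaryBiproducts_of_preservesBinaryCoproducts L
    exact Functor.additive_of_preservesBinaryBiproducts L
  haveI : CompactSpace ((FSch.completionAlong X 𝓘).X 0) := compactSpace_completion_zero
  refine map_bijective_of_colim L (fun G => Coh.IsCoh G) (fun G => Coh.IsQCoh G)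
    (fun G hG => exists_coh_colim G hG) (fun hG hH φ h => kapL_hinj h𝓘 hX hG hH φ h)
    (fun hG hH => (pull_map_bijective h𝓘 hX (cohPS_of_isCoh (A := A) hG) (cohPS_of_isCoh (A := A) hH)).2)
    (fun hc hG σ => FCompl.exists_factor_colimit hc (S3854.result X 𝓘) (isCohF_kapL hX hG) σ) hG hH

theorem ind_iff_exists_kapL (𝔉 : FSch.ModF (FSch.completionAlong X 𝓘) hX) :
    (ObjectProperty.ind.{u} fun 𝔊 : FSch.ModF (FSch.completionAlong X 𝓘) hX =>
      FSch.IsCohF (FSch.completionAlong X 𝓘) hX 𝔊) 𝔉 ↔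
      ∃ G : X.Modules, Coh.IsQCoh G ∧ Nonempty ((kapL (𝓘 := 𝓘) hX).obj G ≅ 𝔉) := by
  let L := kapL (𝓘 := 𝓘) hX
  haveI : PreservesColimitsOfSize.{u, u} L :=
    (FSch.toSchemeMor (FSch.completionAlong X 𝓘) hX (FSch.completionToX X 𝓘)
      (FSch.completionToX_comm X 𝓘)).adj.leftAdjoint_preservesColimits
  refine ind_iff_exists L (fun G => Coh.IsCoh G) (fun G => Coh.IsQCoh G) (fun G hG => exists_coh_colim G hG)
    (fun E => FSch.IsCohF (FSch.completionAlong X 𝓘) hX E) (fun G hG => isCohF_kapL hX hG) (fun E hE => ?_)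
    (fun F c hc hF => DCohLib.isQCoh_of_iso' ((colimit.isColimit F).coconePointUniqueUpToIso hc)
      (QCohGen.isQCoh_colimit X F fun j => (hF j).1))
    (fun hG hH => pull_map_bijective h𝓘 hX (cohPS_of_isCoh (A := A) hG) (cohPS_of_isCoh (A := A) hH)) 𝔉
  obtain ⟨𝔐, h𝔐, ⟨e⟩⟩ := FCompl.exists_realMod_iso (S3854.result X 𝓘) hE
  obtain ⟨G, hG, ⟨i⟩⟩ := exists_algebraization h𝓘 hX 𝔐 h𝔐
    (isProperOver_of_isClosed (PullbackMod.isClosed_support_of_isFT (isCoh_obP h𝔐 0).2))
  haveI := FCompl.complCmp_isIso X 𝓘 hX G hG.1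
  exact ⟨G, hG.1, ⟨asIso (FCompl.complCmp X 𝓘 hX G) ≪≫ i.symm ≪≫ e.symm⟩⟩

end Groth.Agent.FExist
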