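import Mathlib.Algebra.Group.Subgroup.Basic
import Mathlib.GroupTheory.QuotientGroup.Basic
import Mathlib.Order.Basic
import Mathlib.Tactic.Abel

/-!
# Cohomology of a limit of complexes with eventually stable images
-/

set_option autoImplicit false

universe u

namespace Groth.Agent.FExist

/-- Compatible families exist when images are stable after a fixed shift. -/
theorem exists_compatible {P : ℕ → Type u} (t : ∀ {n k : ℕ}, n ≤ k → P k → P n)
    (ht : ∀ {n m k : ℕ} (h : n ≤ m) (h' : m ≤ k) (x : P k), t h (t h' x) = t (h.trans h') x)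
    (c : ℕ) (b₀ : P c)
    (hs : ∀ n (y : P (n + c)), ∃ y' : P (n + 1 + c),
      t (show n ≤ n + 1 + c by omega) y' = t (Nat.le_add_right n c) y) :
    ∃ b : ∀ n, P n, ∀ n, t (Nat.le_succ n) (b (n + 1)) = b n := by
  choose g hg using hs
  let y : ∀ n, P (n + c) := fun n => Nat.rec (motive := fun n => P (n + c)) ((Nat.zero_add c).symm ▸ b₀) g n
  refine ⟨fun n => t (Nat.le_add_right n c) (y n), fun n => ?_⟩
  show t _ (t _ (g n (y n))) = _
  rw [ht]
  exact hg n (y n)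

/-- Two surjective homomorphisms with the same kernel have isomorphic targets. -/
theorem nonempty_addEquiv_of_ker {Z H L : Type u} [AddCommGroup Z] [AddCommGroup H] [AddCommGroup L]
    (f : Z →+ H) (g : Z →+ L) (hf : Function.Surjective f) (hg : Function.Surjective g)
    (h : ∀ z, f z = 0 ↔ g z = 0) : Nonempty (H ≃+ L) :=
  ⟨(QuotientAddGroup.quotientKerEquivOfSurjective f hf).symm.trans
    ((QuotientAddGroup.quotientAddEquivOfEq (AddSubgroup.ext h)).trans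
      (QuotientAddGroup.quotientKerEquivOfSurjective g hg))⟩

variable {P C D H : ℕ → Type u} [∀ k, AddCommGroup (P k)] [∀ k, AddCommGroup (C k)] [∀ k, AddCommGroup (D k)]
  [∀ k, AddCommGroup (H k)] {P' C' D' : Type u} [AddCommGroup P'] [AddCommGroup C'] [AddCommGroup D']
  (d : ∀ k, P k →+ C k) (e : ∀ k, C k →+ D k) (d' : P' →+ C') (e' : C' →+ D')
  (tP : ∀ {n k : ℕ}, n ≤ k → P k →+ P n) (tC : ∀ {n k : ℕ}, n ≤ k → C k →+ C n) (tD : ∀ {n k : ℕ}, n ≤ k → D k →+ D n)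
  (tH : ∀ k, H (k + 1) →+ H k)
  (htP : ∀ {n m k : ℕ} (h : n ≤ m) (h' : m ≤ k) (x : P k), tP h (tP h' x) = tP (h.trans h') x)
  (hdt : ∀ {n k : ℕ} (h : n ≤ k) (x : P k), d n (tP h x) = tC h (d k x))
  (het : ∀ {n k : ℕ} (h : n ≤ k) (x : C k), e n (tC h x) = tD h (e k x))
  (hPs : ∀ k, Function.Surjective (tP (Nat.le_succ k)))
  (hCs : ∀ k, Function.Surjective (tC (Nat.le_succ k)))
  (πP : ∀ k, P' →+ P k) (πC : ∀ k, C' →+ C k) (πD : ∀ k, D' →+ D k)
  (hπd : ∀ k x, πC k (d' x) = d k (πP k x)) (hπe : ∀ k x, πD k (e' x) = e k (πC k x))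
  (hπP : ∀ b : ∀ k, P k, (∀ k, tP (Nat.le_succ k) (b (k + 1)) = b k) → ∃ x, ∀ k, πP k x = b k)
  (hπC : ∀ b : ∀ k, C k, (∀ k, tC (Nat.le_succ k) (b (k + 1)) = b k) → ∃ x, ∀ k, πC k x = b k)
  (hπCc : ∀ {n k : ℕ} (h : n ≤ k) x, tC h (πC k x) = πC n x)
  (hed : ∀ k x, e k (d k x) = 0)
  (hπC0 : ∀ x, (∀ k, πC k x = 0) → x = 0) (hπD0 : ∀ x, (∀ k, πD k x = 0) → x = 0)
  (cl : ∀ k, (e k).ker →+ H k) (hcls : ∀ k, Function.Surjective (cl k))
  (hclk : ∀ k z, cl k z = 0 ↔ z.1 ∈ (d k).range)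
  (hclt : ∀ k (z : (e (k + 1)).ker) (w : (e k).ker), tC (Nat.le_succ k) z.1 = w.1 → tH k (cl (k + 1) z) = cl k w)
  (c : ℕ)
  (hstab : ∀ n (δ : P (n + c)), d _ δ = 0 → ∃ w : P (n + 1 + c), d _ w = 0 ∧
    tP (show n ≤ n + 1 + c by omega) w = tP (Nat.le_add_right n c) δ)

include htP hdt het hPs hCs hπd hπe hπP hπC hπCc hed hπC0 hπD0 hcls hclk hclt hstab in
/-- The cohomology of the limit is the limit of the cohomologies. -/
theorem nonempty_addEquiv_lim {Hlim : Type u} [AddCommGroup Hlim] (cl' : e'.ker →+ Hlim)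
    (hs' : Function.Surjective cl') (hk' : ∀ z, cl' z = 0 ↔ z.1 ∈ d'.range)
    (L : AddSubgroup (∀ k, H k)) (hL : ∀ x, x ∈ L ↔ ∀ k, tH k (x (k + 1)) = x k) :
    Nonempty (Hlim ≃+ L) := by
  have hz : ∀ (z : e'.ker) (k), πC k z.1 ∈ (e k).ker := fun z k => by
    show e k (πC k z.1) = 0
    rw [← hπe, show e' z.1 = 0 from z.2, map_zero]
  let ψ : e'.ker →+ L :=
    { toFun := fun z => ⟨fun k => cl k ⟨πC k z.1, hz z k⟩, (hL _).2 fun k => hclt k _ _ (hπCc _ z.1)⟩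
      map_zero' := Subtype.ext (funext fun k =>
        (congrArg (cl k) (Subtype.ext (map_zero (πC k)))).trans (map_zero _))
      map_add' := fun z w => Subtype.ext (funext fun k =>
        (congrArg (cl k) (Subtype.ext (map_add (πC k) z.1 w.1))).trans (map_add (cl k) ⟨_, hz z k⟩ ⟨_, hz w k⟩)) }
  refine nonempty_addEquiv_of_ker cl' ψ hs' ?_ fun z => ?_
  · rintro ⟨x, hx⟩
    have hx' := (hL x).1 hx
    have step : ∀ k (z : (e k).ker), cl k z = x k →
        ∃ w : (e (k + 1)).ker, cl (k + 1) w = x (k + 1) ∧ tC (Nat.le_succ k) w.1 = z.1 := by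
      intro k z hzx
      obtain ⟨w, hw⟩ := hcls (k + 1) (x (k + 1))
      have hwk : tC (Nat.le_succ k) w.1 ∈ (e k).ker := by
        show e k _ = 0
        rw [het, show e (k + 1) w.1 = 0 from w.2, map_zero]
      have hd : cl k (z - ⟨_, hwk⟩) = 0 := by
        rw [map_sub, ← hclt k w ⟨_, hwk⟩ rfl, hw, hx', hzx, sub_self]
      obtain ⟨b, hb⟩ := (hclk k _).1 hd
      obtain ⟨b', rfl⟩ := hPs k b
      have hbk : d (k + 1) b' ∈ (e (k + 1)).ker := hed (k + 1) b'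
      refine ⟨w + ⟨_, hbk⟩, ?_, ?_⟩
      · rw [map_add, hw, (hclk (k + 1) ⟨_, hbk⟩).2 ⟨b', rfl⟩, add_zero]
      · show tC _ (w.1 + d (k + 1) b') = z.1
        rw [map_add, ← hdt, hb]
        show tC _ w.1 + (z.1 - tC _ w.1) = z.1
        abel
    obtain ⟨z₀, hz₀⟩ := hcls 0 (x 0)
    choose g hg1 hg2 using step
    let seq : ∀ k, { z : (e k).ker // cl k z = x k } := fun k =>
      Nat.rec (motive := fun k => { z : (e k).ker // cl k z = x k }) ⟨z₀, hz₀⟩
        (fun k z => ⟨g k z.1 z.2, hg1 k z.1 z.2⟩) k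
    obtain ⟨y, hy⟩ := hπC (fun k => (seq k).1.1) fun k => hg2 k (seq k).1 (seq k).2
    have hy0 : e' y = 0 := hπD0 _ fun k => by
      rw [hπe, hy]
      exact (seq k).1.2
    refine ⟨⟨y, hy0⟩, Subtype.ext (funext fun k => ?_)⟩
    exact (congrArg (cl k) (Subtype.ext (hy k))).trans (seq k).2
  · rw [hk']
    constructor
    · rintro ⟨b, hb⟩
      refine Subtype.ext (funext fun k => (hclk k _).2 ⟨πP k b, ?_⟩)
      rw [← hπd, hb]
    · intro h
      have hne : ∀ k, ∃ b, d k b = πC k z.1 := fun k => by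
        have hk := congrArg (fun t : L => t.1 k) h
        exact (hclk k _).1 hk
      let Q : ℕ → Type u := fun k => { b : P k // d k b = πC k z.1 }
      have hcomp : ∀ {n k : ℕ} (hnk : n ≤ k), tC hnk (πC k z.1) = πC n z.1 := fun hnk => hπCc hnk z.1
      let tQ : ∀ {n k : ℕ}, n ≤ k → Q k → Q n := fun {n k} hnk b => ⟨tP hnk b.1, by rw [hdt, b.2, hcomp]⟩
      obtain ⟨b₀, hb₀⟩ := hne c
      obtain ⟨q, hq⟩ := exists_compatible (P := Q) tQ (fun h h' x => Subtype.ext (htP h h' x.1)) c ⟨b₀, hb₀⟩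
        fun n y => by
          obtain ⟨b1, hb1⟩ := hne (n + 1 + c)
          have hle : n + c ≤ n + 1 + c := by omega
          obtain ⟨w, hw0, hw⟩ := hstab n (y.1 - tP hle b1) (by rw [map_sub, hdt, hb1, hcomp, y.2, sub_self])
          refine ⟨⟨b1 + w, by rw [map_add, hb1, hw0, add_zero]⟩, Subtype.ext ?_⟩
          show tP _ (b1 + w) = tP _ y.1
          rw [map_add, hw, map_sub, htP]
          abel
      obtain ⟨b, hb⟩ := hπP (fun k => (q k).1) fun k => congrArg Subtype.val (hq k)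
      refine ⟨b, sub_eq_zero.1 (hπC0 _ fun k => ?_)⟩
      rw [map_sub, hπd, hb, (q k).2, sub_self]

end Groth.Agent.FExist
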